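import Mathlib
import Cfsg.Prelude
import Cfsg.Agent.H96.Fx.Base
import Cfsg.Agent.H96.Fx.Z8
import Cfsg.Agent.H96.Fx.D8
import Cfsg.Agent.H63.PG

/-! # S3365, piece B2 -/

set_option autoImplicit false
set_option linter.unusedSectionVars false
set_option linter.style.haveILetI false
open MulAction
open scoped Pointwise

namespace Cfsg.Agent.H96.Fx.B2

variable {T Ω : Type*} [Group T] [MulAction T Ω]

/-- the action of `R` on `Λ` -/
def rho (R : Subgroup T) (Λ : Set Ω) (h : R ≤ stabilizer T Λ) : R →* Equiv.Perm Λ :=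
  (MulAction.toPermHom (stabilizer T Λ) Λ).comp (Subgroup.inclusion h)

theorem rho_ker (R : Subgroup T) (Λ : Set Ω) (h : R ≤ stabilizer T Λ) :
    (rho R Λ h).ker = (fixingSubgroup T Λ).subgroupOf R := by
  ext x
  rw [MonoidHom.mem_ker, Subgroup.mem_subgroupOf, mem_fixingSubgroup_iff]
  constructor
  · intro hx y hy
    have := congrArg (fun σ : Equiv.Perm Λ => ((σ ⟨y, hy⟩ : Λ) : Ω)) hx
    exact this
  · intro hx
    ext y
    exact hx y y.2

theorem card_R (R : Subgroup T) (Λ : Set Ω) (h : R ≤ stabilizer T Λ)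
    (hE : fixingSubgroup T Λ ≤ R) :
    Nat.card R = Nat.card (fixingSubgroup T Λ) * Nat.card (rho R Λ h).range := by
  rw [← Subgroup.index_ker, ← Subgroup.card_mul_index (rho R Λ h).ker, rho_ker,
    Nat.card_congr (Subgroup.subgroupOfEquivOfLe hE).toEquiv]

theorem range_le (hT : IsPGroup 2 T) [Finite T] (R : Subgroup T) (Λ : Set Ω) (hΛ : Nat.card Λ = 4)
    (h : R ≤ stabilizer T Λ) :
    Nat.card (rho R Λ h).range ∣ 8 := by
  haveI : Fact (Nat.Prime 2) := ⟨Nat.prime_two⟩
  haveI : Finite Λ := Nat.finite_of_card_ne_zero (by rw [hΛ]; norm_num)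
  have h1 : IsPGroup 2 (rho R Λ h).range := (hT.to_subgroup R).of_surjective _ (rho R Λ h).rangeRestrict_surjective
  obtain ⟨k, hk⟩ := IsPGroup.iff_card.1 h1
  have h2 : Nat.card (rho R Λ h).range ∣ Nat.card (Equiv.Perm Λ) := Subgroup.card_subgroup_dvd_card _
  rw [Nat.card_perm, hΛ, hk] at h2
  rw [hk]
  have h3 : k ≤ 3 := by
    by_contra hk3
    push Not at hk3
    have h4 : 2 ^ 4 ∣ Nat.factorial 4 := (pow_dvd_pow 2 hk3).trans h2
    revert h4
    decide
  exact (pow_dvd_pow 2 h3)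

theorem nonab {R : Type*} [Group R] [Finite R] (φ : R →* DihedralGroup 4)
    (h : Nat.card R = Nat.card φ.ker * 8) : ∃ a b : R, a * b ≠ b * a := by
  have h1 : Nat.card φ.range = 8 := by
    have h2 := Subgroup.card_mul_index φ.ker
    rw [Subgroup.index_ker, h] at h2
    exact Nat.eq_of_mul_eq_mul_left Nat.card_pos h2
  have hs : Function.Surjective φ := by
    rw [← MonoidHom.range_eq_top]
    apply Subgroup.eq_top_of_card_eq
    rw [h1, DihedralGroup.nat_card]
  obtain ⟨a, ha⟩ := hs (DihedralGroup.r 1)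
  obtain ⟨b, hb⟩ := hs (DihedralGroup.sr 0)
  refine ⟨a, b, fun hab => ?_⟩
  have h3 : φ (a * b) = φ (b * a) := by rw [hab]
  rw [map_mul, map_mul, ha, hb] at h3
  revert h3
  decide

/-- statement of `l32` for `S` -/
def L32 (S : Type*) [Group S] : Prop :=
  ∀ (u : S) (_ : orderOf u = 2)
    (R U₁ U₂ : Subgroup S) (_ : Subgroup.centralizer ({u} : Set S) = R) (_ : Nat.card R = 32)
    (_ : U₁ ≤ R) (_ : U₂ ≤ R) (_ : Nat.card U₁ = 4) (_ : Nat.card U₂ = 4) (_ : U₁ ⊓ U₂ = ⊥)
    (φ₁ φ₂ : R →* DihedralGroup 4) (_ : φ₁.ker = U₁.subgroupOf R) (_ : φ₂.ker = U₂.subgroupOf R),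
    Cfsg.SectionalPRankLE 2 4 S

/-- statement of `l16` for `S` -/
def L16 (S : Type*) [Group S] : Prop :=
  ∀ (R U : Subgroup S) (_ : U ≤ R)
    (_ : Nat.card U = 4) (_ : Nat.card R = 16) (_ : ∀ r ∈ R, r ^ 2 = 1)
    (_ : ∀ u ∈ U, u ≠ 1 → Subgroup.centralizer ({u} : Set S) = R)
    (_ : ∀ n ∈ Subgroup.normalizer (R : Set S), ∀ u ∈ U, u ≠ 1 → n * u * n⁻¹ ∈ U → ∀ v ∈ U, n * v * n⁻¹ ∈ U),
    Cfsg.SectionalPRankLE 2 4 S

/-- statement of `l16a` for `S` -/
def L16A (S : Type*) [Group S] : Prop :=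
  ∀ (R U₁ U₂ : Subgroup S)
    (_ : Nat.card R = 16) (_ : ∀ a ∈ R, ∀ b ∈ R, a * b = b * a) (_ : U₁ ≤ R) (_ : U₂ ≤ R)
    (_ : Nat.card U₁ = 4) (_ : Nat.card U₂ = 4) (_ : U₁ ⊓ U₂ = ⊥) (_ : ∃ r ∈ R, r ^ 2 ≠ 1)
    (_ : ∀ u ∈ U₂, orderOf u = 2 → Subgroup.centralizer ({u} : Set S) = R),
    Cfsg.SectionalPRankLE 2 4 S

theorem core [Finite T] [Finite Ω] (hT : IsPGroup 2 T) (l32 : L32 T) (l16 : L16 T) (l16a : L16A T)
    (hfix : ∀ g : T, g ≠ 1 → Nat.card (fixedBy Ω g) ≤ 4) (Λ : Set Ω) (hΛ : Nat.card Λ = 4)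
    (hE : fixingSubgroup T Λ ≠ ⊥) (hF : stabilizer T Λ ≠ ⊤) : Cfsg.SectionalPRankLE 2 4 T := by
  classical
  haveI : Fact (Nat.Prime 2) := ⟨Nat.prime_two⟩
  haveI := hT.isNilpotent
  obtain ⟨s, hsN, hsF⟩ : ∃ s ∈ Subgroup.normalizer ((stabilizer T Λ : Subgroup T) : Set T), s ∉ stabilizer T Λ :=
    SetLike.exists_of_lt (Group.normalizerCondition_of_isNilpotent _ (lt_top_iff_ne_top.2 hF))
  have hEF : fixingSubgroup T Λ ≤ stabilizer T Λ := fixing_le_stab Λ
  have hΛ2 : Nat.card (s • Λ : Set Ω) = 4 := by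
    rw [← hΛ]
    exact Nat.card_image_of_injective (MulAction.injective s) Λ
  have hFs : ∀ g : T, g ∈ stabilizer T Λ → s⁻¹ * g * s ∈ stabilizer T Λ := by
    intro g hg
    have := (Subgroup.mem_normalizer_iff.1 (inv_mem hsN) g).1 hg
    rwa [inv_inv] at this
  have hFs' : ∀ g : T, s⁻¹ * g * s ∈ stabilizer T Λ → g ∈ stabilizer T Λ := by
    intro g hg
    have := (Subgroup.mem_normalizer_iff.1 hsN _).1 hg
    have e : s * (s⁻¹ * g * s) * s⁻¹ = g := by group
    rwa [e] at this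
  have hF2 : stabilizer T Λ ≤ stabilizer T (s • Λ) := by
    intro g hg
    rw [mem_stab, smul_smul]
    have h1 := mem_stab.1 (hFs g hg)
    have e : g * s = s * (s⁻¹ * g * s) := by group
    rw [e, mul_smul, h1]
  have hE2F : fixingSubgroup T (s • Λ) ≤ stabilizer T Λ := by
    intro w hw
    apply hFs'
    apply hEF
    have h1 := mem_fixing.1 hw
    rw [mem_fixing]
    have e : s⁻¹ * w * s = s⁻¹ * w * s⁻¹⁻¹ := by rw [inv_inv]
    rw [e, fixedBy_conj]
    have h2 : s⁻¹ • (s • Λ) ⊆ s⁻¹ • fixedBy Ω w := Set.smul_set_mono h1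
    rwa [inv_smul_smul] at h2
  have hc2 : Nat.card (fixingSubgroup T (s • Λ)) = Nat.card (fixingSubgroup T Λ) :=
    (Nat.card_congr (SubMulAction.fixingSubgroupEquivFixingSubgroup (M := T) (g := s) (s := s • Λ) (t := Λ) rfl).toEquiv).symm
  have hne : s • Λ ≠ Λ := fun h => hsF (mem_stab.2 h)
  set F := stabilizer T Λ with hFdef
  set E := fixingSubgroup T Λ with hEdef
  set E2 := fixingSubgroup T (s • Λ) with hE2def
  have hw : ∀ w ∈ E, w ≠ 1 → fixedBy Ω w = Λ := fun w h1 h2 => fixedBy_eq hfix hΛ h1 h2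
  have hw2 : ∀ w ∈ E2, w ≠ 1 → fixedBy Ω w = s • Λ := fun w h1 h2 => fixedBy_eq hfix hΛ2 h1 h2
  have hd : E ⊓ E2 = ⊥ := by
    rw [eq_bot_iff]
    rintro w ⟨h1, h2⟩
    rw [Subgroup.mem_bot]
    by_contra h3
    exact hne ((hw2 w h2 h3).symm.trans (hw w h1 h3))
  have hcent : ∀ w ∈ E, w ≠ 1 → Subgroup.centralizer ({w} : Set T) ≤ F := by
    intro w h1 h2 g hg
    rw [Subgroup.mem_centralizer_singleton_iff] at hg
    apply mem_stab_of_conj (hw w h1 h2)
    have e : g * w * g⁻¹ = w := by rw [hg]; group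
    rw [e]
    exact hw w h1 h2
  have hn1 : ∀ f ∈ F, ∀ a ∈ E, f * a * f⁻¹ ∈ E := fun f hf a ha => conj_mem_fixing hf ha
  have hn2 : ∀ f ∈ F, ∀ a ∈ E2, f * a * f⁻¹ ∈ E2 := fun f hf a ha => conj_mem_fixing (hF2 hf) ha
  have hcomm : ∀ a ∈ E, ∀ b ∈ E2, a * b = b * a := by
    intro a ha b hb
    have h1 : a * b * a⁻¹ * b⁻¹ ∈ E ⊓ E2 := by
      refine Subgroup.mem_inf.2 ⟨?_, ?_⟩
      · have e : a * b * a⁻¹ * b⁻¹ = a * (b * a⁻¹ * b⁻¹) := by group
        rw [e]
        exact mul_mem ha (hn1 b (hE2F hb) _ (inv_mem ha))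
      · exact mul_mem (hn2 a (hEF ha) b hb) (inv_mem hb)
    rw [hd, Subgroup.mem_bot] at h1
    calc a * b = (a * b * a⁻¹ * b⁻¹) * (b * a) := by group
      _ = b * a := by rw [h1, one_mul]
  -- the product map
  have hinj : Function.Injective (fun x : E × E2 => (⟨(x.1 : T) * (x.2 : T), mul_mem (hEF x.1.2) (hE2F x.2.2)⟩ : F)) := by
    rintro ⟨a, b⟩ ⟨a', b'⟩ h
    have h1 : (a : T) * b = a' * b' := congrArg Subtype.val h
    have h2 : (a' : T)⁻¹ * a = b' * (b : T)⁻¹ := by
      have : (a' : T)⁻¹ * ((a : T) * b) * (b : T)⁻¹ = (a' : T)⁻¹ * ((a' : T) * b') * (b : T)⁻¹ := by rw [h1]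
      calc (a' : T)⁻¹ * a = (a' : T)⁻¹ * ((a : T) * b) * (b : T)⁻¹ := by group
        _ = _ := this
        _ = _ := by group
    have h3 : (a' : T)⁻¹ * a ∈ E ⊓ E2 := by
      refine Subgroup.mem_inf.2 ⟨mul_mem (inv_mem a'.2) a.2, ?_⟩
      rw [h2]
      exact mul_mem b'.2 (inv_mem b.2)
    rw [hd, Subgroup.mem_bot] at h3
    have h4 : (a' : T) = a := inv_mul_eq_one.1 h3
    have h5 : (b : T) = b' := by
      rw [h3] at h2
      exact (mul_inv_eq_one.1 h2.symm).symm
    exact Prod.ext (Subtype.ext h4.symm) (Subtype.ext h5)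
  have hcardle : Nat.card E * Nat.card E ≤ Nat.card F := by
    have := Nat.card_le_card_of_injective _ hinj
    rwa [Nat.card_prod, hc2] at this
  -- `|E| ≤ 4`
  have hE4 : Nat.card E ≤ 4 := by
    obtain ⟨x, hx, hxΛ⟩ : ∃ x ∈ s • Λ, x ∉ Λ := by
      by_contra hcon
      push Not at hcon
      apply hne
      apply Set.eq_of_subset_of_ncard_le hcon
      rw [← Nat.card_coe_set_eq, ← Nat.card_coe_set_eq, hΛ, hΛ2]
    haveI : Finite (s • Λ : Set Ω) := inferInstance
    have hmem : ∀ w ∈ E, w • x ∈ s • Λ := by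
      intro w hw'
      have h1 := mem_stab.1 (hF2 (hEF hw'))
      rw [← h1]
      exact Set.smul_mem_smul_set hx
    have hinj2 : Function.Injective (fun w : E => (⟨(w : T) • x, hmem w w.2⟩ : (s • Λ : Set Ω))) := by
      intro a b hab
      have h1 : (a : T) • x = (b : T) • x := congrArg Subtype.val hab
      by_contra hne'
      have h2 : (b : T)⁻¹ * a ≠ 1 := fun h => hne' (Subtype.ext (inv_mul_eq_one.1 h).symm)
      have h3 := hw _ (mul_mem (inv_mem b.2) a.2) h2
      apply hxΛ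
      rw [← h3, mem_fixedBy, mul_smul, h1, inv_smul_smul]
    have := Nat.card_le_card_of_injective _ hinj2
    rwa [hΛ2] at this
  have hR1 := card_R F Λ le_rfl hEF
  have hR2 := card_R F (s • Λ) hF2 hE2F
  have hr1 := range_le hT F Λ hΛ le_rfl
  have hr2 := range_le hT F (s • Λ) hΛ2 hF2
  rw [← hEdef] at hR1
  rw [← hE2def, hc2] at hR2
  obtain ⟨k, hk⟩ := IsPGroup.iff_card.1 (hT.to_subgroup E)
  have hE1 : 1 < Nat.card E := (Subgroup.one_lt_card_iff_ne_bot E).2 hE
  have hE24 : Nat.card E = 2 ∨ Nat.card E = 4 := by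
    rw [hk] at hE1 hE4 ⊢
    have : k < 3 := by
      by_contra h
      push Not at h
      have : 2 ^ 3 ≤ 2 ^ k := Nat.pow_le_pow_right (by norm_num) h
      omega
    interval_cases k
    · omega
    · left; rfl
    · right; rfl
  rcases hE24 with h2 | h4
  · -- `|E| = 2`
    haveI : Nontrivial E := (Subgroup.nontrivial_iff_ne_bot E).2 hE
    obtain ⟨⟨e, he⟩, he1⟩ := exists_ne (1 : E)
    have he1' : e ≠ 1 := fun h => he1 (Subtype.ext h)
    have heq : ∀ w ∈ E, w ≠ 1 → w = e := by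
      intro w hw' hw1
      have h5 : ∃ x y : E, x ≠ y ∧ ({x, y} : Set E) = Set.univ := Nat.card_eq_two_iff.1 h2
      obtain ⟨x, y, hxy, hU⟩ := h5
      have m1 : (1 : E) ∈ ({x, y} : Set E) := by rw [hU]; trivial
      have m2 : (⟨e, he⟩ : E) ∈ ({x, y} : Set E) := by rw [hU]; trivial
      have m3 : (⟨w, hw'⟩ : E) ∈ ({x, y} : Set E) := by rw [hU]; trivial
      have hw1' : (⟨w, hw'⟩ : E) ≠ 1 := fun h => hw1 (congrArg Subtype.val h)
      have : (⟨w, hw'⟩ : E) = ⟨e, he⟩ := by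
        simp only [Set.mem_insert_iff, Set.mem_singleton_iff] at m1 m2 m3
        rcases m1 with m1 | m1 <;> rcases m2 with m2 | m2 <;> rcases m3 with m3 | m3 <;>
          first
          | exact absurd (m2.trans m1.symm) he1
          | exact absurd (m3.trans m1.symm) hw1'
          | exact m3.trans m2.symm
      exact congrArg Subtype.val this
    have hoe : orderOf e = 2 := by
      have h5 : orderOf (⟨e, he⟩ : E) ∣ 2 := h2 ▸ orderOf_dvd_natCard _
      rw [Subgroup.orderOf_mk] at h5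
      rcases (Nat.dvd_prime Nat.prime_two).1 h5 with h6 | h6
      · exact absurd (orderOf_eq_one_iff.1 h6) he1'
      · exact h6
    have hC : Subgroup.centralizer ({e} : Set T) = F := by
      apply le_antisymm (hcent e he he1')
      intro f hf
      rw [Subgroup.mem_centralizer_singleton_iff]
      have h5 := heq _ (hn1 f hf e he) (by
        intro h
        apply he1'
        have : e = f⁻¹ * (f * e * f⁻¹) * f := by group
        rw [this, h]; group)
      rw [mul_inv_eq_iff_eq_mul] at h5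
      exact h5
    have hdv := Nat.le_of_dvd (by norm_num) hr1
    by_cases h8 : Nat.card F ≤ 8
    · exact z8 hT e hoe (by rw [hC]; exact h8)
    · have hr8 : Nat.card (rho F Λ le_rfl).range = 8 := by
        rw [hR1, h2] at h8
        obtain ⟨j, hj⟩ := (Nat.dvd_prime_pow Nat.prime_two).1 (show Nat.card (rho F Λ le_rfl).range ∣ 2 ^ 3 from hr1)
        obtain ⟨hj3, hj⟩ := hj
        rw [hj] at h8 ⊢
        interval_cases j <;> simp at h8 ⊢
      have h16 : Nat.card F = 16 := by rw [hR1, h2, hr8]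
      haveI : Finite Λ := inferInstance
      obtain ⟨φ, hφ⟩ := d8_of_perm hΛ (rho F Λ le_rfl) hr8
      have hk1 : Nat.card φ.ker = 2 := by
        rw [hφ, rho_ker, Nat.card_congr (Subgroup.subgroupOfEquivOfLe hEF).toEquiv]
        exact h2
      obtain ⟨a, b, hab⟩ := nonab φ (by rw [hk1, h16])
      refine z16 hT e hoe (by rw [hC]; exact h16) ⟨a, by rw [hC]; exact a.2, b, by rw [hC]; exact b.2, ?_⟩
      intro h
      exact hab (Subtype.ext h)
  · -- `|E| = 4`
    obtain ⟨j, hj3, hj⟩ := (Nat.dvd_prime_pow Nat.prime_two).1 (show Nat.card (rho F Λ le_rfl).range ∣ 2 ^ 3 from hr1)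
    rw [h4] at hcardle
    have hj23 : j = 2 ∨ j = 3 := by
      rw [hR1, h4, hj] at hcardle
      interval_cases j <;> simp at hcardle ⊢
    rcases hj23 with rfl | rfl
    · -- `|F| = 16`
      have h16 : Nat.card F = 16 := by rw [hR1, h4, hj]; norm_num
      have hbij := hinj.bijective_of_nat_card_le (by rw [Nat.card_prod, hc2, h4, h16])
      have hab1 : ∀ a ∈ E, ∀ b ∈ E, a * b = b * a := by
        intro a ha b hb
        have := IsPGroup.commutative_of_card_eq_prime_sq (p := 2) (G := E) (by rw [h4]; norm_num) ⟨a, ha⟩ ⟨b, hb⟩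
        exact congrArg Subtype.val this
      have hab2 : ∀ a ∈ E2, ∀ b ∈ E2, a * b = b * a := by
        intro a ha b hb
        have := IsPGroup.commutative_of_card_eq_prime_sq (p := 2) (G := E2) (by rw [hc2, h4]; norm_num) ⟨a, ha⟩ ⟨b, hb⟩
        exact congrArg Subtype.val this
      have habF : ∀ a ∈ F, ∀ b ∈ F, a * b = b * a := by
        intro x hx y hy
        obtain ⟨⟨a, b⟩, hxe⟩ := hbij.2 ⟨x, hx⟩
        obtain ⟨⟨c, d⟩, hye⟩ := hbij.2 ⟨y, hy⟩
        have e1 : (a : T) * b = x := congrArg Subtype.val hxe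
        have e2 : (c : T) * d = y := congrArg Subtype.val hye
        rw [← e1, ← e2]
        have k1 := hab1 a a.2 c c.2
        have k2 := hab2 b b.2 d d.2
        have k3 := hcomm a a.2 d d.2
        have k4 := hcomm c c.2 b b.2
        calc (a : T) * b * (c * d) = a * (b * c) * d := by group
          _ = a * (c * b) * d := by rw [k4]
          _ = (a * c) * (b * d) := by group
          _ = (c * a) * (d * b) := by rw [k1, k2]
          _ = c * (a * d) * b := by group
          _ = c * (d * a) * b := by rw [k3]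
          _ = c * d * (a * b) := by group
      have hC : ∀ u ∈ E, u ≠ 1 → Subgroup.centralizer ({u} : Set T) = F := by
        intro u hu hu1
        apply le_antisymm (hcent u hu hu1)
        intro f hf
        rw [Subgroup.mem_centralizer_singleton_iff]
        exact habF f hf u (hEF hu)
      by_cases hsq : ∀ r ∈ F, r ^ 2 = 1
      · refine l16 F E hEF h4 h16 hsq hC ?_
        intro n _ u hu hu1 hnu v hv
        have hnF : n ∈ F := by
          apply mem_stab_of_conj (hw u hu hu1)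
          apply hw _ hnu
          intro h
          apply hu1
          have : u = n⁻¹ * (n * u * n⁻¹) * n := by group
          rw [this, h]; group
        exact hn1 n hnF v hv
      · push Not at hsq
        refine l16a F E2 E h16 habF hE2F hEF (by rw [hc2, h4]) h4 (by rw [inf_comm]; exact hd) hsq ?_
        intro u hu huo
        apply hC u hu
        rintro rfl
        rw [orderOf_one] at huo
        omega
    · -- `|F| = 32`
      have h32 : Nat.card F = 32 := by rw [hR1, h4, hj]; norm_num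
      have hr8 : Nat.card (rho F Λ le_rfl).range = 8 := by rw [hj]; norm_num
      have hr8' : Nat.card (rho F (s • Λ) hF2).range = 8 := by
        rw [h32, h4] at hR2
        omega
      haveI : Finite Λ := inferInstance
      haveI : Finite (s • Λ : Set Ω) := inferInstance
      obtain ⟨φ₁, hφ₁⟩ := d8_of_perm hΛ (rho F Λ le_rfl) hr8
      obtain ⟨φ₂, hφ₂⟩ := d8_of_perm hΛ2 (rho F (s • Λ) hF2) hr8'
      -- an involution of `E` central in `F`
      haveI hEn : (E.subgroupOf F).Normal := by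
        refine ⟨fun a ha f => ?_⟩
        rw [Subgroup.mem_subgroupOf] at ha ⊢
        exact hn1 f f.2 a ha
      have hne0 : E.subgroupOf F ≠ ⊥ := by
        intro h
        apply hE
        rw [Subgroup.subgroupOf_eq_bot] at h
        exact h.eq_bot_of_le hEF
      have h5 := H63.inf_center_ne_bot (hT.to_subgroup F) (E.subgroupOf F) hne0
      haveI : Nontrivial (E.subgroupOf F ⊓ Subgroup.center F : Subgroup F) := (Subgroup.nontrivial_iff_ne_bot _).2 h5
      obtain ⟨m, hm⟩ := IsPGroup.iff_card.1 ((hT.to_subgroup F).to_subgroup (E.subgroupOf F ⊓ Subgroup.center F))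
      have hm0 : m ≠ 0 := by
        rintro rfl
        rw [pow_zero] at hm
        exact h5 (Subgroup.card_eq_one.1 hm)
      obtain ⟨u, hu⟩ := exists_prime_orderOf_dvd_card' (G := (E.subgroupOf F ⊓ Subgroup.center F : Subgroup F)) 2
        (by rw [hm]; exact dvd_pow_self 2 hm0)
      have huo : orderOf ((u : F) : T) = 2 := by
        rw [Subgroup.orderOf_coe, Subgroup.orderOf_coe, hu]
      have huE : ((u : F) : T) ∈ E := u.2.1
      have huC : ∀ f ∈ F, f * ((u : F) : T) = ((u : F) : T) * f := by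
        intro f hf
        exact congrArg Subtype.val (Subgroup.mem_center_iff.1 u.2.2 ⟨f, hf⟩)
      have hu1 : ((u : F) : T) ≠ 1 := by
        intro h
        rw [h, orderOf_one] at huo
        omega
      have hC : Subgroup.centralizer ({((u : F) : T)} : Set T) = F := by
        apply le_antisymm (hcent _ huE hu1)
        intro f hf
        rw [Subgroup.mem_centralizer_singleton_iff]
        exact huC f hf
      exact l32 _ huo F E E2 hC h32 hEF hE2F h4 (by rw [hc2, h4]) hd φ₁ φ₂ (by rw [hφ₁, rho_ker])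
        (by rw [hφ₂, rho_ker])

end Cfsg.Agent.H96.Fx.B2

namespace Cfsg.Agent.H96.Fx

theorem b2_of {G Ω : Type*} [Group G] [Finite G] [MulAction G Ω] [Finite Ω]
    (hfix : ∀ g : G, g ≠ 1 → Nat.card (fixedBy Ω g) ≤ 4) (Λ : Set Ω) (hΛ : Nat.card Λ = 4)
    (hD2 : 2 ∣ Nat.card (fixingSubgroup G Λ)) (S : Sylow 2 G)
    (hF : ¬ 2 ∣ ((S : Subgroup G) ⊓ stabilizer G Λ).relIndex (stabilizer G Λ))
    (hFE : ¬ (S : Subgroup G) ⊓ stabilizer G Λ ≤ fixingSubgroup G Λ)
    (hFS : ¬ (S : Subgroup G) ≤ stabilizer G Λ)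
    (l32 : B2.L32 (S : Subgroup G)) (l16 : B2.L16 (S : Subgroup G)) (l16a : B2.L16A (S : Subgroup G)) :
    Cfsg.SectionalPRankLE 2 4 (S : Subgroup G) := by
  classical
  haveI : Fact (Nat.Prime 2) := ⟨Nat.prime_two⟩
  refine B2.core (Ω := Ω) S.2 l32 l16 l16a ?_ Λ hΛ ?_ ?_
  · intro g hg
    have h1 : (g : G) ≠ 1 := fun h => hg (Subtype.ext h)
    exact hfix g h1
  · -- `S ∩ D ≠ 1`
    intro hbot
    have h1 : (S : Subgroup G) ⊓ fixingSubgroup G Λ = ⊥ := by
      rw [eq_bot_iff]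
      intro x hx
      obtain ⟨hxS, hxD⟩ := Subgroup.mem_inf.1 hx
      have h2 : (⟨x, hxS⟩ : (S : Subgroup G)) ∈ fixingSubgroup (S : Subgroup G) Λ := by
        rw [mem_fixingSubgroup_iff] at hxD ⊢
        exact hxD
      rw [hbot, Subgroup.mem_bot] at h2
      exact congrArg Subtype.val h2
    -- the index of `S ∩ M` in `M` would be even
    apply hF
    have hDM : fixingSubgroup G Λ ≤ stabilizer G Λ := fixing_le_stab Λ
    by_contra hodd
    have hP : IsPGroup 2 (((S : Subgroup G) ⊓ stabilizer G Λ).subgroupOf (stabilizer G Λ)) :=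
      (S.2.to_le inf_le_left).comap_subtype
    let P : Sylow 2 (stabilizer G Λ) := hP.toSylow hodd
    obtain ⟨x, hx⟩ := exists_prime_orderOf_dvd_card' (G := fixingSubgroup G Λ) 2 hD2
    have hx2 : orderOf (x : G) = 2 := by rw [Subgroup.orderOf_coe, hx]
    let x' : stabilizer G Λ := ⟨x, hDM x.2⟩
    have hz : IsPGroup 2 (Subgroup.zpowers x') := by
      apply IsPGroup.of_card (n := 1)
      rw [Nat.card_zpowers, Subgroup.orderOf_mk, hx2, pow_one]
    obtain ⟨Q, hQ⟩ := hz.exists_le_sylow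
    obtain ⟨g, hg⟩ := MulAction.exists_smul_eq (stabilizer G Λ) Q P
    have h2 : MulAut.conj g • x' ∈ ((g • Q : Sylow 2 (stabilizer G Λ)) : Subgroup (stabilizer G Λ)) :=
      Subgroup.smul_mem_pointwise_smul x' (MulAut.conj g) (Q : Subgroup (stabilizer G Λ))
        (hQ (Subgroup.mem_zpowers x'))
    rw [hg] at h2
    have h3 : ((MulAut.conj g • x' : stabilizer G Λ) : G) ∈ (S : Subgroup G) ⊓ stabilizer G Λ := h2
    have h4 : ((MulAut.conj g • x' : stabilizer G Λ) : G) = (g : G) * x * (g : G)⁻¹ := rfl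
    rw [h4] at h3
    have h5 : (g : G) * x * (g : G)⁻¹ ∈ fixingSubgroup G Λ := conj_mem_fixing g.2 x.2
    have h6 : (g : G) * x * (g : G)⁻¹ ∈ (S : Subgroup G) ⊓ fixingSubgroup G Λ :=
      Subgroup.mem_inf.2 ⟨(Subgroup.mem_inf.1 h3).1, h5⟩
    rw [h1, Subgroup.mem_bot] at h6
    have h7 : (x : G) = 1 := by
      have : (x : G) = (g : G)⁻¹ * ((g : G) * x * (g : G)⁻¹) * g := by group
      rw [this, h6]; group
    rw [h7, orderOf_one] at hx2
    omega
  · intro htop
    apply hFS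
    intro x hx
    have h1 : (⟨x, hx⟩ : (S : Subgroup G)) ∈ stabilizer (S : Subgroup G) Λ := by rw [htop]; trivial
    exact mem_stab.2 (mem_stab.1 h1)

end Cfsg.Agent.H96.Fx
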