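import Cfsg.Agent.H96.Fx.C2h44

/-! S3365, piece C2: the theorem `Cfsg.Agent.H96.Fx.c2` is proved in `Cfsg.Agent.H96.Fx.C2h44`. -/
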