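import Mathlib

/-! # S3365, piece CABS: the core, with TTR, T3, M3 as hypotheses. -/

set_option autoImplicit false

namespace Cfsg.Agent.H96.Fx

namespace CABS
open Subgroup

theorem three {H : Type*} [Group H] (h : Nat.card H = 3) (x : H) (hx : x ≠ 1) (z : H) :
    z = 1 ∨ z = x ∨ z = x⁻¹ := by
  haveI : Fact (Nat.Prime 3) := ⟨Nat.prime_three⟩
  have hz : z ∈ zpowers x := mem_zpowers_of_prime_card h hx
  have ho : orderOf x = 3 := orderOf_eq_prime (by rw [← h]; exact pow_card_eq_one') hx
  haveI : Finite H := Nat.finite_of_card_ne_zero (by rw [h]; norm_num)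
  obtain ⟨k, hk⟩ := mem_powers_iff_mem_zpowers.2 hz
  have hk' : x ^ (k % 3) = z := by
    rw [← hk, ← ho]
    exact pow_mod_orderOf x k
  have h3 : x ^ 3 = 1 := by rw [← ho]; exact pow_orderOf_eq_one x
  have : k % 3 < 3 := Nat.mod_lt _ (by norm_num)
  interval_cases hm : k % 3
  · left; rw [← hk', pow_zero]
  · right; left; rw [← hk', pow_one]
  · right; right
    rw [← hk']
    apply eq_inv_of_mul_eq_one_left
    rw [← pow_succ]; exact h3

/-- the two sign characters -/
theorem abs {Y : Type*} [CommGroup Y] (A : Subgroup (MulAut Y)) (L : Subgroup Y) (hL : Nat.card L = 3)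
    (hLi : L.index = 3) (hinv : ∀ a ∈ A, ∀ l ∈ L, a l ∈ L) (h3 : ∀ b ∈ A, b ^ 3 = 1 → b = 1)
    (y : Y) (hy : y ≠ 1) (hK : ∀ K : Subgroup Y, y ∉ K → ∃ a ∈ A, a y * y⁻¹ ∉ K) :
    ∃ a ∈ A, a y = y⁻¹ := by
  classical
  have hL3 : ∀ l ∈ L, l ^ 3 = 1 := by
    intro l hl
    have : (⟨l, hl⟩ : L) ^ 3 = 1 := by rw [← hL]; exact pow_card_eq_one'
    exact congrArg (fun z : L => (z : Y)) this
  have hLel : ∀ w ∈ L, w ≠ 1 → ∀ l ∈ L, l = 1 ∨ l = w ∨ l = w⁻¹ := by
    intro w hw hw1 l hl
    rcases three hL (⟨w, hw⟩ : L) (fun h => hw1 (congrArg (fun z : L => (z : Y)) h)) ⟨l, hl⟩ with h | h | h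
    · left; exact congrArg (fun z : L => (z : Y)) h
    · right; left; exact congrArg (fun z : L => (z : Y)) h
    · right; right; exact congrArg (fun z : L => (z : Y)) h
  have hsq1 : ∀ l ∈ L, l * l = 1 → l = 1 := by
    intro l hl h
    have := hL3 l hl
    rw [pow_succ, pow_two, h, one_mul] at this
    exact this
  have hco : ∀ u : Y, u ∉ L → ∀ z : Y, z ∈ L ∨ z * u⁻¹ ∈ L ∨ z * u ∈ L := by
    intro u hu z
    have hc : Nat.card (Y ⧸ L) = 3 := hLi
    rcases three hc (u : Y ⧸ L) (fun h => hu ((QuotientGroup.eq_one_iff u).1 h)) (z : Y ⧸ L) with h | h | h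
    · left; exact (QuotientGroup.eq_one_iff z).1 h
    · right; left
      rw [← QuotientGroup.eq_one_iff, QuotientGroup.mk_mul, QuotientGroup.mk_inv, h, mul_inv_cancel]
    · right; right
      rw [← QuotientGroup.eq_one_iff, QuotientGroup.mk_mul, h, inv_mul_cancel]
  -- Lemma A
  have lemA : y ∉ L → ∀ b ∈ A, (∀ l ∈ L, b l = l) → b y * y⁻¹ ∈ L → b = 1 := by
    intro hyL b hb hbl hby
    have hall : ∀ z : Y, b z * z⁻¹ ∈ L := by
      intro z
      rcases hco y hyL z with h | h | h
      · rw [hbl z h, mul_inv_cancel]; exact L.one_mem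
      · have h1 := hbl _ h
        rw [map_mul, map_inv] at h1
        have h2 : b z * z⁻¹ = b y * y⁻¹ := by
          have h4 : b z = z * y⁻¹ * b y := by rw [← h1]; group
          rw [h4, mul_comm z y⁻¹, mul_comm (b y) y⁻¹, mul_assoc, mul_assoc, mul_comm z (b y * z⁻¹), mul_assoc,
            inv_mul_cancel, mul_one]
        rw [h2]; exact hby
      · have h1 := hbl _ h
        rw [map_mul] at h1
        have h2 : b z * z⁻¹ = (b y * y⁻¹)⁻¹ := by
          have h4 : b z = z * y * (b y)⁻¹ := by rw [← h1]; group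
          rw [h4, mul_inv_rev, inv_inv, mul_comm z y, mul_assoc, mul_assoc, mul_comm z ((b y)⁻¹ * z⁻¹), mul_assoc,
            inv_mul_cancel, mul_one]
        rw [h2]; exact L.inv_mem hby
    apply h3 b hb
    ext z
    rw [pow_succ, pow_two]
    show b (b (b z)) = z
    have e1 : b z = z * (b z * z⁻¹) := by rw [mul_comm (b z) z⁻¹, mul_inv_cancel_left]
    set l := b z * z⁻¹ with hl
    have hlL : l ∈ L := hall z
    have e2 : b (b z) = z * l * l := by
      rw [e1, map_mul, hbl l hlL, e1]
    rw [e2, map_mul, map_mul, hbl l hlL, e1, mul_assoc, mul_assoc z l (l * l)]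
    have : l * (l * l) = 1 := by
      have := hL3 l hlL
      rw [pow_succ, pow_two] at this
      rw [← mul_assoc]; exact this
    rw [this, mul_one]
  by_cases hyL : y ∈ L
  · obtain ⟨a, ha, hay⟩ := hK ⊥ (by rw [mem_bot]; exact hy)
    refine ⟨a, ha, ?_⟩
    rcases hLel y hyL hy (a y) (hinv a ha y hyL) with h | h | h
    · exact absurd ((map_eq_one_iff a a.injective).1 h) hy
    · exact absurd (by rw [h, mul_inv_cancel]; exact one_mem _) hay
    · exact h
  · have lA := lemA hyL
    have hnotL : ∀ a ∈ A, a y ∉ L := by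
      intro a ha h
      apply hyL
      have := hinv a⁻¹ (A.inv_mem ha) _ h
      rwa [MulAut.inv_apply_self] at this
    -- elements inverting `y` mod `L` and inverting `L`
    have caseIII : ∀ b ∈ A, (∀ l ∈ L, b l = l⁻¹) → b y * y ∈ L → b y = y⁻¹ := by
      intro b hb hbl hby
      have hb2 : b * b = 1 := by
        apply lA (b * b) (A.mul_mem hb hb)
        · intro l hl
          show b (b l) = l
          rw [hbl l hl, map_inv, hbl l hl, inv_inv]
        · show b (b y) * y⁻¹ ∈ L
          have h1 := hinv b hb _ hby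
          rw [map_mul] at h1
          have h2 := L.mul_mem h1 (L.inv_mem hby)
          have h5 : b (b y) * b y * (b y * y)⁻¹ = b (b y) * y⁻¹ := by
            rw [mul_inv_rev, mul_comm y⁻¹ (b y)⁻¹, mul_assoc, mul_inv_cancel_left]
          rwa [h5] at h2
      have hbby : b (b y) = y := by
        have := congrArg (fun c : MulAut Y => c y) hb2
        exact this
      have h1 : b (b y * y) = b y * y := by
        rw [map_mul, hbby, mul_comm]
      rw [hbl _ hby] at h1
      have h2 : (b y * y) * (b y * y) = 1 := by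
        nth_rewrite 1 [← h1]
        exact inv_mul_cancel _
      have h4 := hsq1 _ hby h2
      exact eq_inv_of_mul_eq_one_left h4
    obtain ⟨a, ha, hay⟩ := hK L hyL
    have hay' : a y * y ∈ L := by
      rcases hco y hyL (a y) with h | h | h
      · exact absurd h (hnotL a ha)
      · exact absurd h hay
      · exact h
    by_cases hw1 : a y * y = 1
    · exact ⟨a, ha, eq_inv_of_mul_eq_one_left hw1⟩
    set w := a y * y with hw
    rcases hLel w hay' hw1 (a w) (hinv a ha w hay') with h | h | h
    · exact absurd ((map_eq_one_iff a a.injective).1 h) hw1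
    · -- `a` fixes `L` pointwise
      have haL : ∀ l ∈ L, a l = l := by
        intro l hl
        rcases hLel w hay' hw1 l hl with h' | h' | h'
        · rw [h', map_one]
        · rw [h', h]
        · rw [h', map_inv, h]
      have ha2 : a * a = 1 := by
        apply lA (a * a) (A.mul_mem ha ha)
        · intro l hl
          show a (a l) = l
          rw [haL l hl, haL l hl]
        · show a (a y) * y⁻¹ ∈ L
          have h1 := hinv a ha _ hay'
          rw [hw, map_mul] at h1
          have h2 := L.mul_mem h1 (L.inv_mem hay')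
          have h5 : a (a y) * a y * (w)⁻¹ = a (a y) * y⁻¹ := by
            rw [hw, mul_inv_rev, mul_comm y⁻¹ (a y)⁻¹, mul_assoc, mul_inv_cancel_left]
          rwa [h5] at h2
      have haay : a (a y) = y := congrArg (fun c : MulAut Y => c y) ha2
      set v := a y * y⁻¹ with hv
      have hav : a v = v⁻¹ := by
        rw [hv, map_mul, map_inv, haay, mul_inv_rev, inv_inv]
      have hyv : y ∉ zpowers v := by
        rintro ⟨i, hi⟩
        have hi' : v ^ i = y := hi
        apply hw1
        rw [hw]
        have : a y = y⁻¹ := by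
          rw [← hi', map_zpow, hav, inv_zpow]
        rw [this, inv_mul_cancel]
      obtain ⟨b, hb, hby⟩ := hK (zpowers v) hyv
      have hbsign : (∀ l ∈ L, b l = l) ∨ (∀ l ∈ L, b l = l⁻¹) := by
        rcases hLel w hay' hw1 (b w) (hinv b hb w hay') with h' | h' | h'
        · exact absurd ((map_eq_one_iff b b.injective).1 h') hw1
        · left
          intro l hl
          rcases hLel w hay' hw1 l hl with h'' | h'' | h''
          · rw [h'', map_one]
          · rw [h'', h']
          · rw [h'', map_inv, h']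
        · right
          intro l hl
          rcases hLel w hay' hw1 l hl with h'' | h'' | h''
          · rw [h'', map_one, inv_one]
          · rw [h'', h']
          · rw [h'', map_inv, h']
      rcases hbsign with hbl | hbl
      · rcases hco y hyL (b y) with h' | h' | h'
        · exact absurd h' (hnotL b hb)
        · exfalso
          have := lA b hb hbl h'
          apply hby
          rw [this]
          show y * y⁻¹ ∈ _
          rw [mul_inv_cancel]; exact one_mem _
        · exfalso
          have hab : a * b = 1 := by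
            apply lA (a * b) (A.mul_mem ha hb)
            · intro l hl
              show a (b l) = l
              rw [hbl l hl, haL l hl]
            · show a (b y) * y⁻¹ ∈ L
              have h1 := hinv a ha _ h'
              rw [map_mul] at h1
              have h2 := L.mul_mem h1 (L.inv_mem hay')
              have h5 : a (b y) * a y * (w)⁻¹ = a (b y) * y⁻¹ := by
                rw [hw, mul_inv_rev, mul_comm y⁻¹ (a y)⁻¹, mul_assoc, mul_inv_cancel_left]
              rwa [h5] at h2
          have hba : b = a := by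
            have : b = a⁻¹ := eq_inv_of_mul_eq_one_right hab
            rw [this]
            exact inv_eq_of_mul_eq_one_left ha2
          apply hby
          rw [hba]
          exact mem_zpowers v
      · rcases hco y hyL (b y) with h' | h' | h'
        · exact absurd h' (hnotL b hb)
        · refine ⟨a * b, A.mul_mem ha hb, caseIII (a * b) (A.mul_mem ha hb) ?_ ?_⟩
          · intro l hl
            show a (b l) = l⁻¹
            rw [hbl l hl, map_inv, haL l hl]
          · show a (b y) * y ∈ L
            have h1 := hinv a ha _ h'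
            rw [map_mul, map_inv] at h1
            have h2 := L.mul_mem h1 hay'
            have h5 : a (b y) * (a y)⁻¹ * w = a (b y) * y := by
              rw [hw, mul_assoc, inv_mul_cancel_left]
            rwa [h5] at h2
        · exact ⟨b, hb, caseIII b hb hbl h'⟩
    · -- `a` inverts `L`
      have haL : ∀ l ∈ L, a l = l⁻¹ := by
        intro l hl
        rcases hLel w hay' hw1 l hl with h' | h' | h'
        · rw [h', map_one, inv_one]
        · rw [h', h]
        · rw [h', map_inv, h]
      exact ⟨a, ha, caseIII a ha haL hay'⟩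

end CABS

open Subgroup in
/-- [CABS] core of the abstract case, with TTR, T3, M3 as hypotheses -/
theorem c_abs_core {G : Type*} [Group G] [Finite G] (P : Sylow 3 G) (e : G)
    (he : e ∈ (P : Subgroup G)) (he3 : orderOf e = 3)
    (h9 : Nat.card ↥((P : Subgroup G) ⊓ Subgroup.centralizer ({e} : Set G)) = 9)
    (hB : ∀ q ∈ Subgroup.normalizer ((P : Subgroup G) : Set G), (∃ k : ℕ, q ^ 2 ^ k = 1) →
      ∀ x ∈ (P : Subgroup G), IsConj e x → q * x * q⁻¹ ∈ Subgroup.zpowers x → q = 1)
    (httr : ∀ K : Subgroup G, K ≤ (P : Subgroup G) → (∀ x ∈ (P : Subgroup G), ∀ k ∈ K, x * k * x⁻¹ ∈ K) →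
      (∀ x ∈ (P : Subgroup G), ∀ y ∈ (P : Subgroup G), x * y * x⁻¹ * y⁻¹ ∈ K) → e ∉ K →
      (∀ s : G, s * e * s⁻¹ ∈ (P : Subgroup G) → (s * e * s⁻¹) * e⁻¹ ∈ K) → False)
    (ht3 : ∀ s : G, s * e * s⁻¹ ∈ (P : Subgroup G) → ∃ n ∈ Subgroup.normalizer ((P : Subgroup G) : Set G),
      ∃ c ∈ ⁅(P : Subgroup G), (P : Subgroup G)⁆, s * e * s⁻¹ = n * e * n⁻¹ * c)
    (hm3 : ∀ e' : (P : Subgroup G), e' = ⟨e, he⟩ → orderOf e' = 3 →
      Nat.card (Subgroup.centralizer ({e'} : Set (P : Subgroup G))) = 9 →
      ¬ (Nat.card (P : Subgroup G) = 27 ∧ ∀ x : (P : Subgroup G), x ^ 3 = 1) →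
      (_root_.commutator (P : Subgroup G)).index = 9 ∧
      (∀ c ∈ _root_.commutator (P : Subgroup G), IsConj e' (e' * c)) ∧
      ∃ L : Subgroup (P : Subgroup G), L.Characteristic ∧ L.index = 3 ∧ _root_.commutator (P : Subgroup G) ≤ L) :
    Nat.card P = 27 ∧ ∀ x ∈ (P : Subgroup G), x ^ 3 = 1 := by
  classical
  haveI : Fact (Nat.Prime 3) := ⟨Nat.prime_three⟩
  haveI : Fact (Nat.Prime 2) := ⟨Nat.prime_two⟩
  by_contra hcon
  have he3' : e ^ 3 = 1 := by rw [← he3]; exact pow_orderOf_eq_one e
  -- M3 inside `P`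
  set e' : (P : Subgroup G) := ⟨e, he⟩ with he'
  have hcard9 : Nat.card (centralizer ({e'} : Set (P : Subgroup G))) = 9 := by
    rw [← h9]
    refine Nat.card_congr
      { toFun := fun x => ⟨((x : (P : Subgroup G)) : G), mem_inf.2 ⟨(x : (P : Subgroup G)).2, ?_⟩⟩
        invFun := fun x => ⟨⟨(x : G), (mem_inf.1 x.2).1⟩, ?_⟩
        left_inv := fun x => rfl
        right_inv := fun x => rfl }
    · rw [mem_centralizer_singleton_iff]
      exact congrArg (fun z : (P : Subgroup G) => (z : G)) (mem_centralizer_singleton_iff.1 x.2)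
    · rw [mem_centralizer_singleton_iff]
      exact Subtype.ext (mem_centralizer_singleton_iff.1 (mem_inf.1 x.2).2)
  obtain ⟨hidx, hcl, L, hLchar, hLi, hLc⟩ := hm3 e' he'
    (by rw [he', Subgroup.orderOf_mk]; exact he3) hcard9
    (by
      rintro ⟨h1, h2⟩
      apply hcon
      refine ⟨h1, fun x hx => ?_⟩
      have := h2 ⟨x, hx⟩
      exact congrArg (fun z : (P : Subgroup G) => (z : G)) this)
  -- the action of `N(P)` on `Y = P / P'`
  let N : Subgroup G := normalizer ((P : Subgroup G) : Set G)
  have hcm : ∀ n : N, ∀ x : (P : Subgroup G), (n : G) * (x : G) * (n : G)⁻¹ ∈ (P : Subgroup G) := fun n x =>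
    (mem_normalizer_iff.1 n.2 (x : G)).1 x.2
  let ψ : N →* MulAut (P : Subgroup G) := (P : Subgroup G).normalizerMonoidHom
  have hψ : ∀ (n : N) (x : (P : Subgroup G)), ((ψ n x : (P : Subgroup G)) : G) = (n : G) * (x : G) * (n : G)⁻¹ :=
    fun n x => rfl
  let φ : N →* MulAut (Abelianization (P : Subgroup G)) := MonoidHom.mk' (fun n => (ψ n).abelianizationCongr)
    (by
      intro a b
      apply MulEquiv.ext
      intro z
      obtain ⟨x, rfl⟩ := QuotientGroup.mk'_surjective _ z
      rw [map_mul]
      rfl)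
  have hφ : ∀ (n : N) (x : (P : Subgroup G)), φ n (Abelianization.of x) = Abelianization.of (ψ n x) := fun n x => rfl
  set y : Abelianization (P : Subgroup G) := Abelianization.of e' with hy
  have hy1 : y ≠ 1 := by
    intro h
    have h1 : e' ∈ commutator (P : Subgroup G) := by
      rw [← Abelianization.ker_of]
      exact h
    have h2 := hcl e'⁻¹ (inv_mem h1)
    rw [mul_inv_cancel] at h2
    have h4 : e' = 1 := isConj_one_left.1 h2
    have h5 : e = 1 := congrArg (fun z : (P : Subgroup G) => (z : G)) h4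
    rw [h5] at he3
    simp at he3
  have hy3 : y ^ 3 = 1 := by
    rw [hy, ← map_pow]
    have : e' ^ 3 = 1 := Subtype.ext he3'
    rw [this, map_one]
  have hcardY : Nat.card (Abelianization (P : Subgroup G)) = 9 := hidx
  have hofs : Function.Surjective (Abelianization.of : (P : Subgroup G) →* Abelianization (P : Subgroup G)) :=
    QuotientGroup.mk'_surjective _
  have hLi' : (L.map (Abelianization.of : (P : Subgroup G) →* Abelianization (P : Subgroup G))).index = 3 := by
    exact (Subgroup.index_map_eq _ hofs (by rw [Abelianization.ker_of]; exact hLc)).trans hLi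
  have hL3 : Nat.card (L.map (Abelianization.of : (P : Subgroup G) →* Abelianization (P : Subgroup G))) = 3 := by
    have := Subgroup.card_mul_index (L.map (Abelianization.of : (P : Subgroup G) →* Abelianization (P : Subgroup G)))
    rw [hLi', hcardY] at this
    omega
  have hmain := CABS.abs φ.range (L.map (Abelianization.of : (P : Subgroup G) →* Abelianization (P : Subgroup G)))
    hL3 hLi' (by
      rintro _ ⟨n, rfl⟩ _ ⟨l, hl, rfl⟩
      rw [hφ]
      refine ⟨ψ n l, ?_, rfl⟩
      have := hLchar.fixed (ψ n)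
      have h1 : l ∈ L.comap (ψ n).toMonoidHom := by rw [this]; exact hl
      exact h1)
    (by
      rintro b ⟨n, rfl⟩ hb3
      have hker : (P : Subgroup G).subgroupOf N ≤ φ.ker := by
        rintro ⟨p, hpN⟩ hp
        have hp' : p ∈ (P : Subgroup G) := hp
        rw [MonoidHom.mem_ker]
        apply MulEquiv.ext
        intro z
        obtain ⟨x, rfl⟩ := hofs z
        rw [hφ]
        show Abelianization.of (ψ ⟨p, hpN⟩ x) = Abelianization.of x
        have : ψ ⟨p, hpN⟩ x = (⟨p, hp'⟩ : (P : Subgroup G)) * x * (⟨p, hp'⟩ : (P : Subgroup G))⁻¹ := Subtype.ext rfl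
        rw [this, map_mul, map_mul, map_inv, mul_comm (Abelianization.of (⟨p, hp'⟩ : (P : Subgroup G))), mul_assoc,
          mul_inv_cancel, mul_one]
      have hd1 : orderOf (φ n) ∣ Nat.card φ.range :=
        Subgroup.orderOf_dvd_natCard _ ⟨n, rfl⟩
      have hd2 : Nat.card φ.range ∣ ((P : Subgroup G).subgroupOf N).index := by
        have : Nat.card φ.range = φ.ker.index := (Subgroup.index_ker φ).symm
        rw [this]
        exact Subgroup.index_dvd_of_le hker
      have hd3 : ((P : Subgroup G).subgroupOf N).index ∣ (P : Subgroup G).index :=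
        ⟨N.index, (Subgroup.relIndex_mul_index (le_normalizer)).symm⟩
      have hnd : ¬ 3 ∣ (P : Subgroup G).index := P.not_dvd_index
      have ho : orderOf (φ n) ∣ 3 := orderOf_dvd_of_pow_eq_one hb3
      rcases (Nat.dvd_prime Nat.prime_three).1 ho with h | h
      · exact orderOf_eq_one_iff.1 h
      · exfalso
        apply hnd
        rw [h] at hd1
        exact hd1.trans (hd2.trans hd3))
    y hy1 (by
      intro K hyK
      by_contra hall
      push Not at hall
      refine httr ((K.comap (Abelianization.of : (P : Subgroup G) →* Abelianization (P : Subgroup G))).map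
        (P : Subgroup G).subtype) ?_ ?_ ?_ ?_ ?_
      · rintro _ ⟨x, _, rfl⟩
        exact x.2
      · rintro x hx _ ⟨k, hk, rfl⟩
        refine ⟨⟨x, hx⟩ * k * (⟨x, hx⟩)⁻¹, ?_, rfl⟩
        show Abelianization.of _ ∈ K
        rw [map_mul, map_mul, map_inv, mul_comm (Abelianization.of _), mul_assoc, mul_inv_cancel, mul_one]
        exact hk
      · intro x hx z hz
        refine ⟨⟨x, hx⟩ * ⟨z, hz⟩ * (⟨x, hx⟩)⁻¹ * (⟨z, hz⟩)⁻¹, ?_, rfl⟩
        show Abelianization.of _ ∈ K
        rw [map_mul, map_mul, map_mul, map_inv, map_inv,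
          mul_comm (Abelianization.of (⟨x, hx⟩ : (P : Subgroup G))), mul_assoc (Abelianization.of _) _ (_)⁻¹,
          mul_inv_cancel, mul_one, mul_inv_cancel]
        exact K.one_mem
      · rintro ⟨k, hk, hke⟩
        have : k = e' := Subtype.ext hke
        apply hyK
        rw [this] at hk
        exact hk
      · intro s hs
        obtain ⟨n, hn, c, hc, hsc⟩ := ht3 s hs
        rw [← Subgroup.map_subtype_commutator] at hc
        obtain ⟨c', hc', rfl⟩ := hc
        refine ⟨ψ ⟨n, hn⟩ e' * c' * e'⁻¹, ?_, ?_⟩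
        · show Abelianization.of _ ∈ K
          have hc1 : Abelianization.of (c' : (P : Subgroup G)) = 1 := by
            rw [← MonoidHom.mem_ker, Abelianization.ker_of]; exact hc'
          rw [map_mul, map_mul, map_inv, hc1, mul_one]
          exact hall (φ ⟨n, hn⟩) ⟨_, rfl⟩
        · rw [hsc]
          rfl)
  obtain ⟨_, ⟨n, rfl⟩, hn⟩ := hmain
  -- the 2-part of `n`
  obtain ⟨a, m, hm, ham⟩ := Nat.exists_eq_two_pow_mul_odd (n := orderOf n) (orderOf_pos n).ne'
  set q : N := n ^ m with hq
  have hq2 : q ^ 2 ^ a = 1 := by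
    rw [hq, ← pow_mul, mul_comm, ← ham, pow_orderOf_eq_one]
  have hqy : φ q y = y⁻¹ := by
    obtain ⟨j, hj⟩ := hm
    have h2 : ∀ j : ℕ, (φ n ^ (2 * j)) y = y := by
      intro j
      induction j with
      | zero => rfl
      | succ j ih =>
        rw [Nat.mul_succ, pow_add, MulAut.mul_apply, pow_two, MulAut.mul_apply, hn, map_inv, hn, inv_inv]
        exact ih
    rw [hq, hj, map_pow, pow_succ, MulAut.mul_apply, hn, map_inv, h2]
  -- permutation of the coset
  let X : Type _ := {x : (P : Subgroup G) // Abelianization.of x = y}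
  have hqx : ∀ x : X, Abelianization.of (ψ q x.1)⁻¹ = y := by
    intro x
    rw [map_inv, ← hφ, x.2, hqy, inv_inv]
  let f : X → X := fun x => ⟨(ψ q x.1)⁻¹, hqx x⟩
  have hf : Function.Injective f := by
    intro x z h
    have h1 : (ψ q x.1)⁻¹ = (ψ q z.1)⁻¹ := congrArg (fun t : X => t.1) h
    exact Subtype.ext ((ψ q).injective (inv_injective h1))
  haveI : Finite X := inferInstance
  haveI : Fintype X := Fintype.ofFinite X
  let σ : Equiv.Perm X := Equiv.ofBijective f (Finite.injective_iff_bijective.1 hf)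
  have hσ : ∀ x : X, σ x = f x := fun x => rfl
  have hσ2 : ∀ (k : ℕ) (x : X), ((σ ^ (2 * k)) x).1 = (ψ q ^ (2 * k)) x.1 := by
    intro k
    induction k with
    | zero => intro x; rfl
    | succ k ih =>
      intro x
      rw [Nat.mul_succ, pow_add, Equiv.Perm.mul_apply, ih, pow_add, MulAut.mul_apply]
      congr 1
      rw [pow_two, pow_two, Equiv.Perm.mul_apply, MulAut.mul_apply]
      show (ψ q (ψ q x.1)⁻¹)⁻¹ = _
      rw [map_inv, inv_inv]
  have hσp : σ ^ 2 ^ (a + 1) = 1 := by
    apply Equiv.ext
    intro x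
    apply Subtype.ext
    rw [pow_succ, mul_comm, hσ2, ← map_pow]
    have : q ^ (2 * 2 ^ a) = 1 := by rw [mul_comm, pow_mul, hq2, one_pow]
    rw [this, map_one]
    rfl
  have hXcard : ¬ 2 ∣ Fintype.card X := by
    rw [← Nat.card_eq_fintype_card]
    have h1 : Nat.card X = Nat.card (commutator (P : Subgroup G)) := by
      refine Nat.card_congr
        { toFun := fun x => ⟨e'⁻¹ * x.1, ?_⟩
          invFun := fun c => ⟨e' * c, ?_⟩
          left_inv := fun x => Subtype.ext (mul_inv_cancel_left _ _)
          right_inv := fun c => Subtype.ext (inv_mul_cancel_left _ _) }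
      · rw [← Abelianization.ker_of, MonoidHom.mem_ker, map_mul, map_inv, x.2, ← hy, inv_mul_cancel]
      · have : Abelianization.of (c : (P : Subgroup G)) = 1 := by
          rw [← MonoidHom.mem_ker, Abelianization.ker_of]; exact c.2
        rw [map_mul, this, mul_one]
    rw [h1]
    intro h2
    have h3 := h2.trans (Subgroup.card_subgroup_dvd_card (commutator (P : Subgroup G)))
    obtain ⟨k, hk⟩ := IsPGroup.iff_card.1 P.isPGroup'
    rw [hk] at h3
    have := Nat.Prime.dvd_of_dvd_pow Nat.prime_two h3
    omega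
  obtain ⟨x, hx⟩ := Equiv.Perm.exists_fixed_point_of_prime hXcard hσp
  have hx1 : (ψ q x.1)⁻¹ = x.1 := congrArg (fun t : X => t.1) hx
  have hx2 : (q : G) * ((x.1 : (P : Subgroup G)) : G) * (q : G)⁻¹ = ((x.1 : (P : Subgroup G)) : G)⁻¹ := by
    have h1 : ψ q x.1 = (x.1)⁻¹ := inv_eq_iff_eq_inv.1 hx1
    rw [← hψ, h1]; rfl
  have hcx : IsConj e (x.1 : G) := by
    have h1 : e'⁻¹ * x.1 ∈ commutator (P : Subgroup G) := by
      rw [← Abelianization.ker_of, MonoidHom.mem_ker, map_mul, map_inv, x.2, ← hy, inv_mul_cancel]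
    have h2 := hcl _ h1
    rw [mul_inv_cancel_left] at h2
    exact MonoidHom.map_isConj (P : Subgroup G).subtype h2
  have hq1 := hB (q : G) q.2 ⟨a, by exact_mod_cast congrArg (fun z : N => (z : G)) hq2⟩ (x.1 : G) (x.1).2 hcx
    (by rw [hx2]; exact inv_mem (mem_zpowers _))
  have hq1' : q = 1 := Subtype.ext hq1
  rw [hq1', map_one] at hqy
  have hyy : y * y = 1 := by
    have : y = y⁻¹ := hqy
    nth_rewrite 1 [this]
    exact inv_mul_cancel y
  apply hy1
  rw [pow_succ, pow_two, hyy, one_mul] at hy3
  exact hy3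

end Cfsg.Agent.H96.Fx
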