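import Mathlib
import Cfsg.Prelude
import Cfsg.Agent.H73.Sec2

set_option autoImplicit false

namespace Cfsg.Agent.H96.Fx

/-- [L64] -/
theorem l64 {S : Type*} [Group S] [Finite S] (hS : IsPGroup 2 S) (hc : Nat.card S ≤ 64) (U : Subgroup S)
    (hU : Nat.card U = 4) (hC : ∀ u ∈ U, u ≠ 1 → Nat.card (Subgroup.centralizer ({u} : Set S)) = 16) :
    Cfsg.SectionalPRankLE 2 4 S := by
  classical
  refine Cfsg.Agent.H73.Sec.intro fun L N hNL hcomm _ => ?_
  by_contra hlt
  have hmul := Cfsg.Agent.H63.card_mul_relIndex hNL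
  have hN0 : 0 < Nat.card N := Nat.card_pos
  -- the relative index is a power of two, hence at least 32
  have h32 : 32 ≤ N.relIndex L := by
    obtain ⟨n, hn⟩ := hS.exists_card_eq
    have hdvd : N.relIndex L ∣ 2 ^ n := by
      rw [← hn]
      exact (Dvd.intro_left _ hmul).trans (Subgroup.card_subgroup_dvd_card L)
    obtain ⟨m, -, hm⟩ := (Nat.dvd_prime_pow Nat.prime_two).1 hdvd
    rw [hm] at hlt ⊢
    have h4 : 4 < m := by
      by_contra h
      exact hlt (Nat.pow_le_pow_right (by norm_num) (by omega))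
    calc 32 = 2 ^ 5 := by norm_num
      _ ≤ 2 ^ m := Nat.pow_le_pow_right (by norm_num) h4
  have hL : 32 ≤ Nat.card L := by
    rw [← hmul]
    calc 32 = 1 * 32 := by norm_num
      _ ≤ Nat.card N * N.relIndex L := Nat.mul_le_mul hN0 h32
  -- U meets L
  obtain ⟨u, huU, huL, hu1⟩ : ∃ u, u ∈ U ∧ u ∈ L ∧ u ≠ 1 := by
    by_contra hno
    push Not at hno
    have hdis : Disjoint U L := by
      rw [Subgroup.disjoint_def]
      intro x h1 h2
      exact hno x h1 h2
    have hinj := Subgroup.mul_injective_of_disjoint hdis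
    have h1 := Nat.card_le_card_of_injective _ hinj
    rw [Nat.card_prod, hU] at h1
    omega
  -- the class of u in L has at most |N| elements
  have hC16 := hC u huU hu1
  let f : L → N := fun x => ⟨(x : S) * u * (x : S)⁻¹ * u⁻¹, hcomm x x.2 u huL⟩
  have hf : ∀ x : L, ((f x : N) : S) = (x : S) * u * (x : S)⁻¹ * u⁻¹ := fun x => rfl
  have hr : ∀ x : L, f (Function.invFun f (f x)) = f x := fun x => Function.invFun_eq ⟨x, rfl⟩
  have hcen : ∀ x : L, ((Function.invFun f (f x) : L) : S)⁻¹ * (x : S) ∈ Subgroup.centralizer ({u} : Set S) := by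
    intro x
    have h1 := congrArg (Subtype.val) (hr x)
    rw [hf, hf] at h1
    have h2 := mul_right_cancel h1
    rw [Subgroup.mem_centralizer_singleton_iff]
    set y : S := ((Function.invFun f (f x) : L) : S)
    have h3 : y * u * y⁻¹ * (x : S) = (x : S) * u := by rw [h2]; group
    calc y⁻¹ * (x : S) * u = y⁻¹ * ((x : S) * u) := by group
      _ = y⁻¹ * (y * u * y⁻¹ * (x : S)) := by rw [h3]
      _ = u * (y⁻¹ * (x : S)) := by group
  let g : L → N × Subgroup.centralizer ({u} : Set S) := fun x => (f x, ⟨_, hcen x⟩)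
  have hg : Function.Injective g := by
    intro x y hxy
    have h1 : f x = f y := congrArg Prod.fst hxy
    have h2 := congrArg (fun z => ((z.2 : Subgroup.centralizer ({u} : Set S)) : S)) hxy
    simp only [g] at h2
    rw [h1] at h2
    exact Subtype.ext (mul_left_cancel h2)
  have h3 := Nat.card_le_card_of_injective g hg
  rw [Nat.card_prod, hC16, ← hmul] at h3
  have h4 := Nat.le_of_mul_le_mul_left h3 hN0
  omega

end Cfsg.Agent.H96.Fx
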