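import Cfsg.Agent.S4399
import Cfsg.Prelude

/-! # S3365: 2-groups with an involution with centralizer of order at most 4 (owner: helper32). -/

set_option autoImplicit false
open scoped commutatorElement

namespace Cfsg.Agent.H96.Fx

theorem card_ab_le {S : Type*} [Group S] [Finite S] (y : S) :
    Nat.card (S ⧸ commutator S) ≤ Nat.card (Subgroup.centralizer ({y} : Set S)) := by
  set C := Subgroup.centralizer ({y} : Set S) with hC
  have h1 : Nat.card (S ⧸ C) ≤ Nat.card (commutator S) := by
    let φ : S ⧸ C → commutator S := fun q => ⟨⁅q.out, y⁆, Subgroup.commutator_mem_commutator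
      (Subgroup.mem_top _) (Subgroup.mem_top _)⟩
    apply Nat.card_le_card_of_injective φ
    intro q q' h
    have h2 : ⁅q.out, y⁆ = ⁅q'.out, y⁆ := congrArg Subtype.val h
    rw [commutatorElement_def, commutatorElement_def] at h2
    have h3 : q.out * y * q.out⁻¹ = q'.out * y * q'.out⁻¹ := mul_right_cancel h2
    have h4 : q.out⁻¹ * q'.out ∈ C := by
      refine Subgroup.mem_centralizer_singleton_iff.2 ?_
      have h5 : y * (q.out⁻¹ * q'.out) = q.out⁻¹ * (q.out * y * q.out⁻¹) * q'.out := by group
      have h6 : q.out⁻¹ * q'.out * y = q.out⁻¹ * (q'.out * y * q'.out⁻¹) * q'.out := by group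
      first | rw [h5, h6, h3] | rw [h6, h5, h3]
    rw [← QuotientGroup.out_eq' q, ← QuotientGroup.out_eq' q', QuotientGroup.eq]
    exact h4
  have h2 := Subgroup.card_eq_card_quotient_mul_card_subgroup C
  have h3 := Subgroup.card_eq_card_quotient_mul_card_subgroup (commutator S)
  have h4 : 0 < Nat.card (commutator S) := Nat.card_pos
  rw [h3] at h2
  have h5 : Nat.card (S ⧸ commutator S) * Nat.card (commutator S) ≤ Nat.card C * Nat.card (commutator S) := by
    rw [h2, mul_comm (Nat.card C)]
    exact Nat.mul_le_mul_right _ h1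
  exact Nat.le_of_mul_le_mul_right h5 h4

theorem suz4 {S : Type*} [Group S] [Finite S] (hS : IsPGroup 2 S) (y : S) (hy : orderOf y = 2)
    (h : Nat.card (Subgroup.centralizer ({y} : Set S)) ≤ 4) (hnc : ¬ IsCyclic S) :
    (∃ n : ℕ, Nonempty (S ≃* DihedralGroup n)) ∨ Cfsg.IsQuasiDihedral S := by
  haveI : Fact (Nat.Prime 2) := ⟨Nat.prime_two⟩
  haveI : Group.IsNilpotent S := hS.isNilpotent
  have hab : ¬ IsCyclic (Abelianization S) := by
    intro hc
    have h1 := MaxClass.commutator_eq_bot_of_isCyclic_quotient (G := S) hc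
    apply hnc
    haveI := hc
    apply isCyclic_of_injective (Abelianization.of : S →* Abelianization S)
    rw [← MonoidHom.ker_eq_bot_iff]
    have h2 : (Abelianization.of : S →* Abelianization S).ker = commutator S := QuotientGroup.ker_mk' _
    rw [h2, h1]
  have hle : Nat.card (Abelianization S) ≤ 4 := (card_ab_le y).trans h
  have hp : IsPGroup 2 (Abelianization S) := hS.of_surjective (Abelianization.of : S →* Abelianization S)
    (QuotientGroup.mk'_surjective _)
  obtain ⟨k, hk⟩ := IsPGroup.iff_card.1 hp
  have h4 : Nat.card (Abelianization S) = 4 := by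
    rcases k with _ | _ | _ | k
    · exfalso
      apply hab
      have : Subsingleton (Abelianization S) := (Nat.card_eq_one_iff_unique.1 (by simpa using hk)).1
      infer_instance
    · exact absurd (isCyclic_of_prime_card (p := 2) (by simpa using hk)) hab
    · simpa using hk
    · exfalso
      have : 8 ≤ 2 ^ (k + 1 + 1 + 1) := by
        have := Nat.one_le_two_pow (n := k)
        rw [pow_succ, pow_succ, pow_succ]
        omega
      omega
  have exp2 : ∀ {A : Type _} [Group A] [Finite A], Nat.card A = 4 → ¬ IsCyclic A → ∀ x : A, x ^ 2 = 1 := by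
    intro A _ _ hA hn x
    have h1 : orderOf x ∣ 4 := hA ▸ orderOf_dvd_natCard x
    have h2 : orderOf x ≠ 4 := fun h2 => hn (isCyclic_of_orderOf_eq_card x (by rw [h2, hA]))
    have h3 : orderOf x ∣ 2 := by
      have h4 : orderOf x ≤ 4 := Nat.le_of_dvd (by norm_num) h1
      interval_cases h5 : orderOf x <;> omega
    exact orderOf_dvd_iff_pow_eq_one.1 h3
  rcases Cfsg.Agent.S4399.result hS h4 (exp2 h4 hab) with h5 | ⟨k, ⟨e⟩⟩ | ⟨k, hc, a, b, ha, hb, hab'⟩ | ⟨k, ⟨e⟩⟩
  · left
    have h6 := exp2 h5 hnc
    haveI : IsKleinFour S := by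
      refine ⟨h5, ?_⟩
      have h7 : Monoid.exponent S ∣ 2 := Monoid.exponent_dvd_of_forall_pow_eq_one h6
      rcases (Nat.dvd_prime Nat.prime_two).1 h7 with h8 | h8
      · exfalso
        have h9 := Monoid.exp_eq_one_iff.1 h8
        have h10 : Nat.card S = 1 := Nat.card_of_subsingleton (1 : S)
        omega
      · exact h8
    exact ⟨2, IsKleinFour.nonempty_mulEquiv⟩
  · exact Or.inl ⟨_, ⟨e⟩⟩
  · exact Or.inr ⟨k + 3, by omega, hc, a, b, ha, hb, hab'⟩
  · exfalso
    have hn : NeZero (2 ^ (k + 1)) := ⟨by positivity⟩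
    have hcen : ∀ s : S, s * y = y * s := by
      have h6 : orderOf (e y) = 2 := by rw [MulEquiv.orderOf_eq e, hy]
      have h7 : ∃ i, e y = QuaternionGroup.a i := by
        rcases h8 : e y with i | i
        · exact ⟨i, rfl⟩
        · exfalso
          rw [h8, show QuaternionGroup.xa i = QuaternionGroup.xa i from rfl] at h6
          rw [QuaternionGroup.orderOf_xa] at h6
          omega
      obtain ⟨i, hi⟩ := h7
      have h8 : (QuaternionGroup.a i : QuaternionGroup (2 ^ (k + 1))) ^ 2 = 1 := by
        rw [← hi]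
        exact orderOf_dvd_iff_pow_eq_one.1 (dvd_of_eq h6)
      rw [pow_two, QuaternionGroup.a_mul_a, QuaternionGroup.one_def] at h8
      have h9 : i + i = 0 := by injection h8
      intro s
      apply e.injective
      rw [map_mul, map_mul, hi]
      rcases e s with j | j
      · rw [QuaternionGroup.a_mul_a, QuaternionGroup.a_mul_a]
        congr 1
        exact add_comm j i
      · rw [QuaternionGroup.a_mul_xa, QuaternionGroup.xa_mul_a]
        congr 1
        rw [sub_eq_add_neg, (eq_neg_of_add_eq_zero_left h9).symm]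
    have h6 : Subgroup.centralizer ({y} : Set S) = ⊤ := by
      rw [eq_top_iff]
      intro s _
      rw [Subgroup.mem_centralizer_singleton_iff]
      first | exact hcen s | exact (hcen s).symm
    rw [h6, Nat.card_congr Subgroup.topEquiv.toEquiv, Nat.card_congr e.toEquiv, Nat.card_eq_fintype_card,
      QuaternionGroup.card, pow_succ] at h
    have := Nat.one_le_two_pow (n := k)
    omega

end Cfsg.Agent.H96.Fx
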