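import Cfsg.Agent.H96.Fx.Base
import Cfsg.Agent.H96.Fx.B1
import Cfsg.Agent.H96.Fx.CF
import Cfsg.Agent.H96.Fx.Suz4

set_option autoImplicit false
set_option linter.all false
open MulAction
open scoped Pointwise

namespace Cfsg.Agent.H96.Fx.PAx

universe u

section PAgeo
variable {G Ω : Type*} [Group G] [Finite G] [MulAction G Ω] [Finite Ω]

theorem pa_inv {w : G} (h1 : w ≠ 1) (hk : ∃ k : ℕ, w ^ 2 ^ k = 1) : ∃ j : ℕ, orderOf (w ^ j) = 2 := by
  obtain ⟨k, hk⟩ := hk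
  haveI : Fact (Nat.Prime 2) := ⟨Nat.prime_two⟩
  obtain ⟨m, -, hm⟩ := (Nat.dvd_prime_pow Nat.prime_two).1 (orderOf_dvd_of_pow_eq_one hk)
  have hm0 : m ≠ 0 := by
    rintro rfl
    rw [pow_zero, orderOf_eq_one_iff] at hm
    exact h1 hm
  obtain ⟨m', rfl⟩ := Nat.exists_eq_succ_of_ne_zero hm0
  refine ⟨2 ^ m', ?_⟩
  rw [orderOf_pow' _ (by positivity), hm]
  rw [Nat.gcd_eq_right (pow_dvd_pow 2 (Nat.le_succ m')), pow_succ, Nat.mul_div_cancel_left _ (by positivity)]

theorem pa_fx {f : ℕ} (hf : ∀ g : G, orderOf g = 2 → Nat.card (fixedBy Ω g) ≤ f) {Λ : Set Ω} (hΛ : Nat.card Λ = f)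
    {w : G} (hw : w ∈ fixingSubgroup G Λ) (h1 : w ≠ 1) (hk : ∃ k : ℕ, w ^ 2 ^ k = 1) : fixedBy Ω w = Λ := by
  obtain ⟨j, hj⟩ := pa_inv h1 hk
  have h2 : fixedBy Ω w ⊆ fixedBy Ω (w ^ j) := by
    intro x hx
    exact MulAction.mem_fixedBy.2 (by
      have : w ∈ stabilizer G x := hx
      exact (stabilizer G x).pow_mem this j)
  have h3 := mem_fixing.1 hw
  have h4 : Λ = fixedBy Ω (w ^ j) := by
    apply Set.eq_of_subset_of_ncard_le (h3.trans h2)
    rw [← Nat.card_coe_set_eq, ← Nat.card_coe_set_eq, hΛ]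
    exact hf _ hj
  exact Set.Subset.antisymm (h2.trans h4.symm.subset) h3

/-- the action of the set stabilizer on the set -/
def rho (Λ : Set Ω) : stabilizer G Λ →* Equiv.Perm Λ :=
  letI : MulAction (stabilizer G Λ) Λ :=
    { smul := fun m x => ⟨(m : G) • (x : Ω), by
        have h : (m : G) • (x : Ω) ∈ (m : G) • Λ := Set.smul_mem_smul_set x.2
        rwa [mem_stab.1 m.2] at h⟩
      one_smul := fun x => Subtype.ext (one_smul G (x : Ω))
      mul_smul := fun m n x => Subtype.ext (mul_smul (m : G) (n : G) (x : Ω)) }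
  MulAction.toPermHom (stabilizer G Λ) Λ

theorem rho_apply (Λ : Set Ω) (m : stabilizer G Λ) (x : Λ) : ((rho Λ m x : Λ) : Ω) = (m : G) • (x : Ω) := rfl

theorem rho_ker (Λ : Set Ω) (m : stabilizer G Λ) : rho Λ m = 1 ↔ (m : G) ∈ fixingSubgroup G Λ := by
  rw [mem_fixingSubgroup_iff]
  constructor
  · intro h x hx
    have := congrArg (fun σ : Equiv.Perm Λ => ((σ ⟨x, hx⟩ : Λ) : Ω)) h
    exact this
  · intro h
    ext x
    exact h x x.2

/-- a 2-subgroup of `M` is at most twice its intersection with `D` (`|Λ| ≤ 3`) -/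
theorem pa_half {Λ : Set Ω} (hΛ : Nat.card Λ ≤ 3) (X : Subgroup G) (hX : X ≤ stabilizer G Λ) (h2 : IsPGroup 2 X) :
    Nat.card X ≤ 2 * Nat.card ↥(X ⊓ fixingSubgroup G Λ) := by
  classical
  let φ : X →* Equiv.Perm Λ := (rho Λ).comp (Subgroup.inclusion hX)
  have hker : Nat.card φ.ker = Nat.card ↥(X ⊓ fixingSubgroup G Λ) := by
    apply Nat.card_congr
    exact
      { toFun := fun x => ⟨x.1.1, x.1.2, (rho_ker Λ _).1 x.2⟩
        invFun := fun x => ⟨⟨x.1, x.2.1⟩, (rho_ker Λ ⟨x.1, hX x.2.1⟩).2 x.2.2⟩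
        left_inv := fun x => rfl
        right_inv := fun x => rfl }
  have h3 : Nat.card X = Nat.card φ.range * Nat.card φ.ker := by
    rw [← Subgroup.index_ker, mul_comm, Subgroup.card_mul_index]
  have h4 : IsPGroup 2 φ.range := by
    rintro ⟨_, x, rfl⟩
    obtain ⟨k, hk⟩ := h2 x
    refine ⟨k, Subtype.ext ?_⟩
    show (φ x) ^ 2 ^ k = 1
    rw [← map_pow, hk, map_one]
  haveI : Fact (Nat.Prime 2) := ⟨Nat.prime_two⟩
  obtain ⟨k, hk⟩ := IsPGroup.iff_card.1 h4
  have h5 : Nat.card φ.range ∣ 6 := by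
    have h6 : Nat.card φ.range ∣ Nat.card (Equiv.Perm Λ) := Subgroup.card_subgroup_dvd_card _
    rw [Nat.card_perm] at h6
    refine h6.trans ?_
    have : (Nat.card Λ).factorial ∣ Nat.factorial 3 := Nat.factorial_dvd_factorial hΛ
    exact this
  have h6 : Nat.card φ.range ≤ 2 := by
    rw [hk] at h5 ⊢
    have h7 : k < 2 := by
      by_contra hcon
      have : 2 ^ 2 ∣ 6 := (pow_dvd_pow 2 (by omega)).trans h5
      norm_num at this
    interval_cases k <;> norm_num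
  rw [h3, hker]
  exact Nat.mul_le_mul_right _ h6

theorem pa_u_not {f : ℕ} (hf3 : f ≤ 3) (hf : ∀ g : G, orderOf g = 2 → Nat.card (fixedBy Ω g) ≤ f) {Λ : Set Ω}
    (hΛ : Nat.card Λ = f) {y g x : G} (hyM : y ∈ stabilizer G Λ) (hyD : y ∉ fixingSubgroup G Λ)
    (hy2 : ∃ k : ℕ, y ^ 2 ^ k = 1) (hx : fixedBy Ω x = Λ) (hyx : y = g * x * g⁻¹) :
    orderOf y = 2 := by
  have hfy : fixedBy Ω y = g • Λ := by rw [hyx, fixedBy_conj, hx]
  -- y ^ 2 in D
  have hcardΛ : Nat.card (g • Λ : Set Ω) = Nat.card Λ := by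
    rw [Nat.card_coe_set_eq, Nat.card_coe_set_eq, Set.ncard_smul_set]
  have hZ : IsPGroup 2 (Subgroup.zpowers y) := by
    obtain ⟨k, hk⟩ := hy2
    rintro ⟨_, j, rfl⟩
    refine ⟨k, Subtype.ext ?_⟩
    show (y ^ j) ^ 2 ^ k = 1
    rw [← zpow_natCast, ← zpow_mul, mul_comm, zpow_mul, zpow_natCast, hk, one_zpow]
  have hZM : Subgroup.zpowers y ≤ stabilizer G Λ := by rwa [Subgroup.zpowers_le]
  have hy2D : y ^ 2 ∈ fixingSubgroup G Λ := by
    have h1 := pa_half (by omega : Nat.card Λ ≤ 3) _ hZM hZ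
    -- index of the intersection in zpowers y is at most two
    let X := Subgroup.zpowers y
    let Y := X ⊓ fixingSubgroup G Λ
    have h2 : Y.relIndex X * Nat.card Y = Nat.card X := by
      have e1 : Nat.card (Y.subgroupOf X) * (Y.subgroupOf X).index = Nat.card X := Subgroup.card_mul_index _
      have e2 : Nat.card (Y.subgroupOf X) = Nat.card Y :=
        Nat.card_congr (Subgroup.subgroupOfEquivOfLe inf_le_left).toEquiv
      rw [mul_comm, ← e2]; exact e1
    have h3 : Y.relIndex X ≤ 2 := by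
      have h4 : 0 < Nat.card Y := Nat.card_pos
      have h5 : Y.relIndex X * Nat.card Y ≤ 2 * Nat.card Y := by rw [h2]; exact h1
      exact Nat.le_of_mul_le_mul_right h5 h4
    have h4 : Y.relIndex X ≠ 0 := by
      show (Y.subgroupOf X).index ≠ 0
      exact Subgroup.index_ne_zero_of_finite
    have h5 : Y.relIndex X = 1 ∨ Y.relIndex X = 2 := by omega
    rcases h5 with h5 | h5
    · exact absurd ((Subgroup.relIndex_eq_one.1 h5) (Subgroup.mem_zpowers y)).2 hyD
    · have h6 : (⟨y, Subgroup.mem_zpowers y⟩ : X) ^ 2 ∈ Y.subgroupOf X :=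
        Subgroup.sq_mem_of_index_two h5 _
      exact (Subgroup.mem_subgroupOf.1 h6).2
  by_contra hne
  have h1 : y ^ 2 ≠ 1 := by
    intro h
    apply hne
    refine orderOf_eq_prime h ?_
    rintro rfl
    exact hyD (one_mem _)
  have h2 : fixedBy Ω (y ^ 2) = Λ := by
    refine pa_fx hf hΛ hy2D h1 ?_
    obtain ⟨k, hk⟩ := hy2
    exact ⟨k, by rw [← pow_mul, mul_comm, pow_mul, hk, one_pow]⟩
  have h3 : fixedBy Ω y ⊆ Λ := by
    rw [← h2]
    intro z hz
    exact MulAction.mem_fixedBy.2 ((stabilizer G z).pow_mem (show y ∈ stabilizer G z from hz) 2)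
  have h4 : fixedBy Ω y = Λ := by
    apply Set.eq_of_subset_of_ncard_le h3
    rw [hfy, ← Nat.card_coe_set_eq, ← Nat.card_coe_set_eq, hcardΛ]
  exact hyD (mem_fixing.2 h4.symm.subset)

/-- the centralizer of `y` in `S` has order at most 4 -/
theorem pa_cent {f : ℕ} (hf3 : f ≤ 3) (hf : ∀ g : G, orderOf g = 2 → Nat.card (fixedBy Ω g) ≤ f) {Λ : Set Ω}
    (hΛ : Nat.card Λ = f) {y g x : G} (hyD : y ∉ fixingSubgroup G Λ)
    (hx : fixedBy Ω x = Λ) (hyx : y = g * x * g⁻¹) (S : Subgroup G) (hS : IsPGroup 2 S) (hSM : S ≤ stabilizer G Λ) :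
    Nat.card ↥(S ⊓ Subgroup.centralizer ({y} : Set G)) ≤ 4 := by
  classical
  have hfy : fixedBy Ω y = g • Λ := by rw [hyx, fixedBy_conj, hx]
  have hcardΛ : Nat.card (g • Λ : Set Ω) = Nat.card Λ := by
    rw [Nat.card_coe_set_eq, Nat.card_coe_set_eq, Set.ncard_smul_set]
  obtain ⟨c, hc1, hc2⟩ : ∃ c ∈ fixedBy Ω y, c ∉ Λ := by
    by_contra hcon
    push Not at hcon
    have h4 : fixedBy Ω y = Λ := by
      apply Set.eq_of_subset_of_ncard_le hcon
      rw [hfy, ← Nat.card_coe_set_eq, ← Nat.card_coe_set_eq, hcardΛ]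
    exact hyD (mem_fixing.2 h4.symm.subset)
  let X := S ⊓ Subgroup.centralizer ({y} : Set G)
  let T := X ⊓ fixingSubgroup G Λ
  have hX2 : IsPGroup 2 X := hS.to_le inf_le_left
  have hT2 : IsPGroup 2 T := hX2.to_le inf_le_left
  have h1 : Nat.card X ≤ 2 * Nat.card T := pa_half (by omega) X (inf_le_left.trans hSM) hX2
  have h2 : Nat.card T ≤ 3 := by
    have h3 : Nat.card (fixedBy Ω y) ≤ 3 := by rw [hfy, hcardΛ, hΛ]; exact hf3
    refine le_trans ?_ h3
    have hmem : ∀ w : T, (w : G) • c ∈ fixedBy Ω y := by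
      intro w
      have hw : (w : G) ∈ Subgroup.centralizer ({y} : Set G) := w.2.1.2
      have hw' : (w : G) * y = y * (w : G) := (Subgroup.mem_centralizer_singleton_iff.1 hw)
      rw [mem_fixedBy, ← mul_smul, ← hw', mul_smul]
      rw [mem_fixedBy.1 hc1]
    refine Nat.card_le_card_of_injective (fun w : T => (⟨(w : G) • c, hmem w⟩ : fixedBy Ω y)) ?_
    intro w w' hww
    have h4 : (w : G) • c = (w' : G) • c := congrArg Subtype.val hww
    by_contra hne
    have h5 : ((w : G)⁻¹ * w') ≠ 1 := by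
      intro h
      exact hne (Subtype.ext (inv_mul_eq_one.1 h))
    have h6 : ((w : G)⁻¹ * w') ∈ fixingSubgroup G Λ := mul_mem (inv_mem w.2.2) w'.2.2
    have h7 : ∃ k : ℕ, ((w : G)⁻¹ * w') ^ 2 ^ k = 1 := by
      obtain ⟨k, hk⟩ := hT2 (w⁻¹ * w')
      exact ⟨k, congrArg Subtype.val hk⟩
    have h8 := pa_fx hf hΛ h6 h5 h7
    apply hc2
    rw [← h8, mem_fixedBy, mul_smul, ← h4, inv_smul_smul]
  haveI : Fact (Nat.Prime 2) := ⟨Nat.prime_two⟩
  obtain ⟨k, hk⟩ := IsPGroup.iff_card.1 hT2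
  have h3 : Nat.card T ≤ 2 := by
    rw [hk] at h2 ⊢
    have h7 : k < 2 := by
      by_contra hcon
      have : 2 ^ 2 ≤ 2 ^ k := Nat.pow_le_pow_right (by norm_num) (by omega)
      omega
    interval_cases k <;> norm_num
  show Nat.card X ≤ 4
  omega

/-- case `S` not in `M` -/
theorem pa_small {f : ℕ} (hf3 : f ≤ 3) (hf : ∀ g : G, orderOf g = 2 → Nat.card (fixedBy Ω g) ≤ f) {Λ : Set Ω}
    (hΛ : Nat.card Λ = f) (S : Subgroup G) (hS : IsPGroup 2 S) (hSM : ¬ S ≤ stabilizer G Λ) :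
    Nat.card ↥(S ⊓ stabilizer G Λ) ≤ 4 := by
  classical
  haveI : Fact (Nat.Prime 2) := ⟨Nat.prime_two⟩
  let F : Subgroup G := S ⊓ stabilizer G Λ
  let F' : Subgroup S := (stabilizer G Λ).subgroupOf S
  have hF'top : F' < ⊤ := by
    rw [lt_top_iff_ne_top]
    intro h
    exact hSM (Subgroup.subgroupOf_eq_top.1 h)
  haveI := hS.isNilpotent
  have hnc : F' < Subgroup.normalizer (F' : Set S) := Group.normalizerCondition_of_isNilpotent F' hF'top
  obtain ⟨n, hn1, hn2⟩ := SetLike.exists_of_lt hnc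
  have hnM : (n : G) ∉ stabilizer G Λ := fun h => hn2 (Subgroup.mem_subgroupOf.2 h)
  have hnF : ∀ x ∈ F, (n : G) * x * (n : G)⁻¹ ∈ F := by
    intro x hx
    have h1 : (⟨x, hx.1⟩ : S) ∈ F' := Subgroup.mem_subgroupOf.2 hx.2
    have h2 := (Subgroup.mem_normalizer_iff.1 hn1 ⟨x, hx.1⟩).1 h1
    exact ⟨(n * ⟨x, hx.1⟩ * n⁻¹ : S).2, Subgroup.mem_subgroupOf.1 h2⟩
  have hF2 : IsPGroup 2 F := hS.to_le inf_le_left
  let T := F ⊓ fixingSubgroup G Λ
  have hT2 : IsPGroup 2 T := hF2.to_le inf_le_left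
  have h1 : Nat.card F ≤ 2 * Nat.card T := pa_half (by omega) F inf_le_right hF2
  have h2 : Nat.card (T × T) ≤ Nat.card F := by
    refine Nat.card_le_card_of_injective
      (fun w : T × T => (⟨(w.1 : G) * ((n : G) * (w.2 : G) * (n : G)⁻¹), mul_mem w.1.2.1 (hnF _ w.2.2.1)⟩ : F)) ?_
    rintro ⟨a, b⟩ ⟨a', b'⟩ hab
    have h3 : (a : G) * ((n : G) * (b : G) * (n : G)⁻¹) = (a' : G) * ((n : G) * (b' : G) * (n : G)⁻¹) :=
      congrArg Subtype.val hab
    have h4 : (a' : G)⁻¹ * a = (n : G) * ((b' : G) * (b : G)⁻¹) * (n : G)⁻¹ := by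
      have h5 : (a' : G)⁻¹ * ((a : G) * ((n : G) * (b : G) * (n : G)⁻¹)) =
          (a' : G)⁻¹ * ((a' : G) * ((n : G) * (b' : G) * (n : G)⁻¹)) := by rw [h3]
      rw [inv_mul_cancel_left, ← mul_assoc] at h5
      calc (a' : G)⁻¹ * a = ((a' : G)⁻¹ * a * ((n : G) * (b : G) * (n : G)⁻¹)) * (n * (b : G)⁻¹ * (n : G)⁻¹) := by group
        _ = ((n : G) * (b' : G) * (n : G)⁻¹) * (n * (b : G)⁻¹ * (n : G)⁻¹) := by rw [h5]
        _ = _ := by group
    have h6 : (a' : G)⁻¹ * a ∈ fixingSubgroup G Λ := mul_mem (inv_mem a'.2.2) a.2.2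
    have h7 : (b' : G) * (b : G)⁻¹ ∈ fixingSubgroup G Λ := mul_mem b'.2.2 (inv_mem b.2.2)
    have h8 : (b' : G) * (b : G)⁻¹ = 1 := by
      by_contra hne
      have e1 : fixedBy Ω ((b' : G) * (b : G)⁻¹) = Λ := by
        refine pa_fx hf hΛ h7 hne ?_
        obtain ⟨k, hk⟩ := hT2 (b' * b⁻¹)
        exact ⟨k, congrArg Subtype.val hk⟩
      have e2 : fixedBy Ω ((a' : G)⁻¹ * a) = Λ := by
        refine pa_fx hf hΛ h6 ?_ ?_
        · rw [h4]
          intro h
          rw [mul_inv_eq_one] at h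
          exact hne (by simpa using h)
        · obtain ⟨k, hk⟩ := hT2 (a'⁻¹ * a)
          exact ⟨k, congrArg Subtype.val hk⟩
      rw [h4] at e2
      exact hnM (mem_stab_of_conj e1 e2)
    have hb : b = b' := Subtype.ext (mul_inv_eq_one.1 h8).symm
    subst hb
    have ha : (a : G) = a' := mul_right_cancel h3
    rw [Subtype.ext ha]
  rw [Nat.card_prod] at h2
  have h3 : 0 < Nat.card T := Nat.card_pos
  have h4 : Nat.card T ≤ 2 := by
    by_contra hcon
    nlinarith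
  show Nat.card F ≤ 4
  omega

theorem cent_to {S : Subgroup G} {y : G} (hy : y ∈ S) {N : ℕ}
    (h : Nat.card ↥(S ⊓ Subgroup.centralizer ({y} : Set G)) ≤ N) :
    Nat.card (Subgroup.centralizer ({(⟨y, hy⟩ : S)} : Set S)) ≤ N := by
  refine le_trans ?_ h
  refine Nat.card_le_card_of_injective
    (fun w : Subgroup.centralizer ({(⟨y, hy⟩ : S)} : Set S) => (⟨((w : S) : G), (w : S).2,
      Subgroup.mem_centralizer_singleton_iff.2
        (congrArg Subtype.val (Subgroup.mem_centralizer_singleton_iff.1 w.2))⟩ :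
        ↥(S ⊓ Subgroup.centralizer ({y} : Set G)))) ?_
  intro a b hab
  have h1 := congrArg Subtype.val hab
  exact Subtype.ext (Subtype.ext h1)

theorem conc_of_equiv {S T : Type*} [Group S] [Group T] (e : S ≃* T)
    (h : (∃ n : ℕ, Nonempty (S ≃* DihedralGroup n)) ∨ Cfsg.IsQuasiDihedral S) :
    (∃ n : ℕ, Nonempty (T ≃* DihedralGroup n)) ∨ Cfsg.IsQuasiDihedral T := by
  rcases h with ⟨n, ⟨e'⟩⟩ | ⟨n, hn, hc, x, y, hx, hy, hxy⟩
  · exact Or.inl ⟨n, ⟨e.symm.trans e'⟩⟩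
  · refine Or.inr ⟨n, hn, ?_, e x, e y, ?_, ?_, ?_⟩
    · rw [← hc]; exact Nat.card_congr e.symm.toEquiv
    · rw [← hx]; exact MulEquiv.orderOf_eq e x
    · rw [← hy]; exact MulEquiv.orderOf_eq e y
    · rw [← map_inv, ← map_mul, ← map_mul, hxy, map_pow]

theorem sign_ne {Λ : Type*} [Fintype Λ] [DecidableEq Λ] (hΛ : Nat.card Λ ≤ 3) (σ : Equiv.Perm Λ) (h1 : σ ≠ 1)
    (h2 : ∃ k : ℕ, σ ^ 2 ^ k = 1) : Equiv.Perm.sign σ ≠ 1 := by
  intro h
  obtain ⟨k, hk⟩ := h2
  have hmem : σ ∈ alternatingGroup Λ := Equiv.Perm.mem_alternatingGroup.2 h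
  have h3 : orderOf σ ∣ 3 := by
    have h4 : orderOf (⟨σ, hmem⟩ : alternatingGroup Λ) ∣ Nat.card (alternatingGroup Λ) := orderOf_dvd_natCard _
    rw [Subgroup.orderOf_mk] at h4
    by_cases hn : Nontrivial Λ
    · have h5 := two_mul_nat_card_alternatingGroup (α := Λ)
      have h6 : Nat.card (alternatingGroup Λ) ∣ 3 := by
        rw [Nat.card_perm] at h5
        have h7 : (Nat.card Λ).factorial ∣ Nat.factorial 3 := Nat.factorial_dvd_factorial hΛ
        rw [← h5] at h7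
        have h8 : 2 * Nat.card (alternatingGroup Λ) ∣ 2 * 3 := h7
        exact Nat.dvd_of_mul_dvd_mul_left (by norm_num) h8
      exact h4.trans h6
    · rw [not_nontrivial_iff_subsingleton] at hn
      exact absurd (Subsingleton.elim _ _) h1
  have h4 : orderOf σ ∣ 2 ^ k := orderOf_dvd_of_pow_eq_one hk
  have h5 : orderOf σ = 1 := Nat.eq_one_of_dvd_coprimes (by exact Nat.Coprime.pow_right k (by norm_num)) h3 h4
  exact h1 (orderOf_eq_one_iff.1 h5)

theorem comm_of_cyclic {S : Type*} [Group S] (h : IsCyclic S) (a b : S) : a * b = b * a := by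
  haveI := h
  letI := IsCyclic.commGroup (α := S)
  exact mul_comm a b

theorem unique_inv {S : Type*} [Group S] [Finite S] (h : IsCyclic S) {a b : S} (ha : orderOf a = 2) (hb : orderOf b = 2) :
    a = b := by
  classical
  haveI := h
  haveI : Fintype S := Fintype.ofFinite S
  have hd : 2 ∣ Fintype.card S := by
    rw [← ha, ← Nat.card_eq_fintype_card]; exact orderOf_dvd_natCard a
  have h1 := IsCyclic.card_orderOf_eq_totient hd
  rw [Nat.totient_two, Finset.card_eq_one] at h1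
  obtain ⟨c, hc⟩ := h1
  have e1 : a ∈ ({c} : Finset S) := by rw [← hc]; exact Finset.mem_filter.2 ⟨Finset.mem_univ _, ha⟩
  have e2 : b ∈ ({c} : Finset S) := by rw [← hc]; exact Finset.mem_filter.2 ⟨Finset.mem_univ _, hb⟩
  rw [Finset.mem_singleton.1 e1, Finset.mem_singleton.1 e2]

theorem partA_of {G : Type u} {Ω : Type*} [Group G] [Finite G] [MulAction G Ω] [Finite Ω]
    (suz4 : ∀ {S : Type u} [Group S] [Finite S] (hS : IsPGroup 2 S) (y : S) (hy : orderOf y = 2)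
      (h : Nat.card (Subgroup.centralizer ({y} : Set S)) ≤ 4) (hnc : ¬ IsCyclic S),
      (∃ n : ℕ, Nonempty (S ≃* DihedralGroup n)) ∨ Cfsg.IsQuasiDihedral S)
    [IsSimpleGroup G] (hna : ¬ IsMulCommutative G) [FaithfulSMul G Ω] (htrans : IsPretransitive G Ω)
    (S : Sylow 2 G) (f : ℕ) (hf1 : 1 ≤ f) (hf3 : f ≤ 3)
    (hf : ∀ g : G, orderOf g = 2 → Nat.card (fixedBy Ω g) ≤ f)
    (t : G) (ht : orderOf t = 2) (htf : Nat.card (fixedBy Ω t) = f) :
    (∃ H : Subgroup G, Cfsg.IsStronglyEmbedded H) ∨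
      ((∃ n : ℕ, Nonempty ((S : Subgroup G) ≃* DihedralGroup n)) ∨ Cfsg.IsQuasiDihedral (S : Subgroup G)) := by
  classical
  haveI : Fact (Nat.Prime 2) := ⟨Nat.prime_two⟩
  obtain ⟨Λ, hΛe⟩ : ∃ Λ : Set Ω, Λ = fixedBy Ω t := ⟨_, rfl⟩
  have hΛ : Nat.card Λ = f := by rw [hΛe, htf]
  have htD : t ∈ fixingSubgroup G Λ := mem_fixing.2 hΛe.subset
  have ht1 : t ≠ 1 := by rintro rfl; rw [orderOf_one] at ht; norm_num at ht
  have hD2 : 2 ∣ Nat.card (fixingSubgroup G Λ) := by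
    have h1 : orderOf (⟨t, htD⟩ : fixingSubgroup G Λ) ∣ Nat.card (fixingSubgroup G Λ) := orderOf_dvd_natCard _
    rwa [Subgroup.orderOf_mk, ht] at h1
  have hDM := fixing_le_stab (G := G) Λ
  by_cases hMD : 2 ∣ (fixingSubgroup G Λ).relIndex (stabilizer G Λ)
  swap
  · -- strongly embedded
    left
    refine ⟨stabilizer G Λ, ?_, ?_, ?_⟩
    · intro htop
      have hne : Λ.Nonempty := by
        rw [Set.nonempty_iff_ne_empty]
        rintro rfl
        rw [Nat.card_coe_set_eq, Set.ncard_empty] at hΛ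
        omega
      obtain ⟨a, ha⟩ := hne
      apply ht1
      apply FaithfulSMul.eq_of_smul_eq_smul (α := Ω)
      intro b
      obtain ⟨g, hg⟩ := exists_smul_eq G a b
      have h1 : g • Λ = Λ := mem_stab.1 (by rw [htop]; exact Subgroup.mem_top g)
      have h2 : b ∈ Λ := by rw [← h1, ← hg]; exact Set.smul_mem_smul_set ha
      rw [one_smul]
      rw [hΛe] at h2
      exact h2
    · rw [even_iff_two_dvd]
      exact hD2.trans (Subgroup.card_dvd_of_le hDM)
    · intro g hg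
      rw [← Nat.not_even_iff_odd, even_iff_two_dvd]
      exact b1 2 Λ (fun w hw h1 hk => pa_fx hf hΛ hw h1 hk) hMD g hg
  · right
    -- a Sylow 2-subgroup F₀ of M inside a Sylow S₀ of G
    obtain ⟨F₀⟩ : Nonempty (Sylow 2 (stabilizer G Λ)) := inferInstance
    have hF₀2 : IsPGroup 2 ((F₀ : Subgroup (stabilizer G Λ)).map (stabilizer G Λ).subtype) := F₀.2.map _
    obtain ⟨S₀, hS₀⟩ := hF₀2.exists_le_sylow
    refine conc_of_equiv (Sylow.equiv S₀ S) ?_
    -- t is conjugate in M to an element of F₀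
    obtain ⟨t₀, ht₀F, ht₀, ht₀D, ht₀f⟩ : ∃ t₀ : G, t₀ ∈ (S₀ : Subgroup G) ∧ orderOf t₀ = 2 ∧
        t₀ ∈ fixingSubgroup G Λ ∧ fixedBy Ω t₀ = Λ := by
      let tM : stabilizer G Λ := ⟨t, hDM htD⟩
      have h1 : IsPGroup 2 (Subgroup.zpowers tM) := by
        refine IsPGroup.of_card (n := 1) ?_
        rw [Nat.card_zpowers, Subgroup.orderOf_mk, ht, pow_one]
      obtain ⟨Q, hQ⟩ := h1.exists_le_sylow
      obtain ⟨m, hm⟩ := MulAction.exists_smul_eq (stabilizer G Λ) Q F₀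
      have h2 : m * tM * m⁻¹ ∈ (F₀ : Subgroup (stabilizer G Λ)) := by
        rw [← hm]
        exact ⟨tM, hQ (Subgroup.mem_zpowers tM), rfl⟩
      have h3 : (m : G) * t * (m : G)⁻¹ ∈ fixingSubgroup G Λ := conj_mem_fixing m.2 htD
      have h4 : orderOf ((m : G) * t * (m : G)⁻¹) = 2 := by
        rw [← ht]
        exact MulEquiv.orderOf_eq (MulAut.conj (m : G)) t
      refine ⟨(m : G) * t * (m : G)⁻¹, hS₀ ⟨_, h2, rfl⟩, h4, h3, ?_⟩
      refine pa_fx hf hΛ h3 ?_ ⟨1, by rw [pow_one, ← h4, pow_orderOf_eq_one]⟩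
      intro h
      rw [h, orderOf_one] at h4
      norm_num at h4
    by_cases hSM : (S₀ : Subgroup G) ≤ stabilizer G Λ
    · -- fusion
      have hSD : ¬ (S₀ : Subgroup G) ≤ fixingSubgroup G Λ := by
        intro h
        have h1 : (F₀ : Subgroup (stabilizer G Λ)) ≤ (fixingSubgroup G Λ).subgroupOf (stabilizer G Λ) := by
          intro x hx
          exact Subgroup.mem_subgroupOf.2 (h (hS₀ ⟨x, hx, rfl⟩))
        have h2 : (fixingSubgroup G Λ).relIndex (stabilizer G Λ) ∣ (F₀ : Subgroup (stabilizer G Λ)).index :=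
          Subgroup.index_dvd_of_le h1
        exact F₀.not_dvd_index (hMD.trans h2)
      obtain ⟨u, huS, huD⟩ := SetLike.not_le_iff_exists.1 hSD
      haveI : Fintype Λ := Fintype.ofFinite Λ
      let χ : stabilizer G Λ →* ℤˣ := Equiv.Perm.sign.comp (rho Λ)
      have hns : ¬ ∀ x ∈ (S₀ : Subgroup G), x ∈ fixingSubgroup G Λ → ∀ g : G, g * x * g⁻¹ ∈ (S₀ : Subgroup G) →
          g * x * g⁻¹ ∈ fixingSubgroup G Λ := by
        intro hsc
        have hperf : commutator G = ⊤ := by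
          rcases IsSimpleGroup.eq_bot_or_eq_top_of_normal (commutator G) inferInstance with h | h
          · exfalso
            apply hna
            have h1 : (⊤ : Subgroup G) ≤ Subgroup.centralizer ((⊤ : Subgroup G) : Set G) :=
              Subgroup.commutator_eq_bot_iff_le_centralizer.1 h
            exact ⟨⟨fun a b => (Subgroup.mem_centralizer_iff.1 (h1 (Subgroup.mem_top b)) a (Subgroup.mem_top a))⟩⟩
          · exact h
        have h1 := ctrl 2 hperf (stabilizer G Λ) (fixingSubgroup G Λ) hDM (fun m hm d hd => conj_mem_fixing hm hd)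
          S₀ hSM hD2 (fun x hx h1 hk g hg => by
            have e1 := pa_fx hf hΛ hx h1 hk
            have e2 : fixedBy Ω (g * x * g⁻¹) = Λ := by
              refine pa_fx hf hΛ hg ?_ ?_
              · intro h
                rw [conj_eq_one_iff] at h
                exact h1 h
              · obtain ⟨k, hk⟩ := hk
                refine ⟨k, ?_⟩
                rw [conj_pow, hk, mul_one, mul_inv_cancel]
            exact mem_stab_of_conj e1 e2) hsc χ (fun d hd => by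
              show Equiv.Perm.sign (rho Λ d) = 1
              rw [(rho_ker Λ d).2 hd, map_one]) ⟨u, hSM huS⟩ huS
        refine sign_ne (by omega) (rho Λ ⟨u, hSM huS⟩) ?_ ?_ h1
        · intro h
          exact huD ((rho_ker Λ _).1 h)
        · obtain ⟨k, hk⟩ := S₀.2 ⟨u, huS⟩
          refine ⟨k, ?_⟩
          rw [← map_pow]
          have : (⟨u, hSM huS⟩ : stabilizer G Λ) ^ 2 ^ k = 1 := by
            apply Subtype.ext
            show u ^ 2 ^ k = 1
            exact congrArg Subtype.val hk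
          rw [this, map_one]
      push Not at hns
      obtain ⟨x, hxS, hxD, g, hgS, hgD⟩ := hns
      have hx1 : x ≠ 1 := by
        rintro rfl
        apply hgD
        rw [mul_one, mul_inv_cancel]
        exact one_mem _
      have hxf : fixedBy Ω x = Λ := by
        refine pa_fx hf hΛ hxD hx1 ?_
        obtain ⟨k, hk⟩ := S₀.2 ⟨x, hxS⟩
        exact ⟨k, congrArg Subtype.val hk⟩
      have hy2 : orderOf (g * x * g⁻¹) = 2 := by
        refine pa_u_not hf3 hf hΛ (hSM hgS) hgD ?_ hxf rfl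
        obtain ⟨k, hk⟩ := S₀.2 ⟨_, hgS⟩
        exact ⟨k, congrArg Subtype.val hk⟩
      have hc := pa_cent hf3 hf hΛ hgD hxf rfl (S₀ : Subgroup G) S₀.2 hSM
      refine suz4 (S := ↥(S₀ : Subgroup G)) S₀.2 (⟨_, hgS⟩ : ↥(S₀ : Subgroup G)) ?_ (cent_to hgS hc) ?_
      · rw [Subgroup.orderOf_mk]; exact hy2
      · intro hcyc
        have h1 := unique_inv hcyc (a := (⟨_, hgS⟩ : (S₀ : Subgroup G))) (b := ⟨t₀, ht₀F⟩)
          (by rw [Subgroup.orderOf_mk]; exact hy2) (by rw [Subgroup.orderOf_mk]; exact ht₀)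
        have h2 : g * x * g⁻¹ = t₀ := congrArg Subtype.val h1
        exact hgD (by rw [h2]; exact ht₀D)
    · have h4 := pa_small hf3 hf hΛ (S₀ : Subgroup G) S₀.2 hSM
      have hcM : (S₀ : Subgroup G) ⊓ Subgroup.centralizer ({t₀} : Set G) ≤ (S₀ : Subgroup G) ⊓ stabilizer G Λ := by
        intro c hc
        refine ⟨hc.1, ?_⟩
        have h1 : c * t₀ * c⁻¹ = t₀ := by
          rw [mul_inv_eq_iff_eq_mul]
          exact Subgroup.mem_centralizer_singleton_iff.1 hc.2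
        exact mem_stab_of_conj ht₀f (by rw [h1]; exact ht₀f)
      have hc : Nat.card ↥((S₀ : Subgroup G) ⊓ Subgroup.centralizer ({t₀} : Set G)) ≤ 4 :=
        (Subgroup.card_le_of_le hcM).trans h4
      refine suz4 (S := ↥(S₀ : Subgroup G)) S₀.2 (⟨t₀, ht₀F⟩ : ↥(S₀ : Subgroup G)) ?_ (cent_to ht₀F hc) ?_
      · rw [Subgroup.orderOf_mk]; exact ht₀
      · intro hcyc
        apply hSM
        intro s hs
        have h5 := comm_of_cyclic hcyc (⟨s, hs⟩ : (S₀ : Subgroup G)) ⟨t₀, ht₀F⟩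
        have h6 : s * t₀ = t₀ * s := congrArg Subtype.val h5
        exact (hcM ⟨hs, Subgroup.mem_centralizer_singleton_iff.2 h6⟩).2

end PAgeo

end Cfsg.Agent.H96.Fx.PAx

namespace Cfsg.Agent.H96.Fx

/-- [PA] part A -/
theorem partA {G Ω : Type*} [Group G] [Finite G] [MulAction G Ω] [Finite Ω]
    [IsSimpleGroup G] (hna : ¬ IsMulCommutative G) [FaithfulSMul G Ω] (htrans : IsPretransitive G Ω)
    (S : Sylow 2 G) (f : ℕ) (hf1 : 1 ≤ f) (hf3 : f ≤ 3)
    (hf : ∀ g : G, orderOf g = 2 → Nat.card (fixedBy Ω g) ≤ f)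
    (t : G) (ht : orderOf t = 2) (htf : Nat.card (fixedBy Ω t) = f) :
    (∃ H : Subgroup G, Cfsg.IsStronglyEmbedded H) ∨
      ((∃ n : ℕ, Nonempty ((S : Subgroup G) ≃* DihedralGroup n)) ∨ Cfsg.IsQuasiDihedral (S : Subgroup G)) :=
  PAx.partA_of (fun hS y hy h hnc => suz4 hS y hy h hnc) hna htrans S f hf1 hf3 hf t ht htf

end Cfsg.Agent.H96.Fx
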