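import Cfsg.Agent.H96.Fx.Base

/-! # S3365, part A, the case of at most one fixed point (owner: helper32). -/

set_option autoImplicit false
open MulAction
open scoped Pointwise

namespace Cfsg.Agent.H96.Fx

theorem partA1 {G Ω : Type*} [Group G] [Finite G] [MulAction G Ω] [Finite Ω] [FaithfulSMul G Ω]
    (htrans : IsPretransitive G Ω) (hf : ∀ g : G, orderOf g = 2 → Nat.card (fixedBy Ω g) ≤ 1)
    (t : G) (ht : orderOf t = 2) (htf : Nat.card (fixedBy Ω t) = 1) : ∃ H : Subgroup G, Cfsg.IsStronglyEmbedded H := by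
  haveI := htrans
  obtain ⟨⟨a, ha⟩⟩ : Nonempty (fixedBy Ω t) := (Nat.card_pos_iff.1 (by omega)).1
  refine ⟨stabilizer G a, ?_, ?_, ?_⟩
  · intro htop
    have h1 : t = 1 := by
      apply FaithfulSMul.eq_of_smul_eq_smul (α := Ω)
      intro x
      obtain ⟨g, rfl⟩ := exists_smul_eq G a x
      have hg : g ∈ stabilizer G a := by rw [htop]; exact Subgroup.mem_top _
      rw [mem_stabilizer_iff.1 hg, one_smul]
      exact ha
    rw [h1, orderOf_one] at ht
    omega
  · have h1 : orderOf (⟨t, ha⟩ : stabilizer G a) = 2 := by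
      rw [← Subgroup.orderOf_coe]
      exact ht
    have h2 : 2 ∣ Nat.card (stabilizer G a) := h1 ▸ orderOf_dvd_natCard _
    exact even_iff_two_dvd.2 h2
  · intro g hg
    by_contra hodd
    rw [Nat.not_odd_iff_even, even_iff_two_dvd] at hodd
    haveI : Fact (Nat.Prime 2) := ⟨Nat.prime_two⟩
    obtain ⟨u, hu⟩ := exists_prime_orderOf_dvd_card' (G := ↥(stabilizer G a ⊓
      (stabilizer G a).map (MulAut.conj g).toMonoidHom)) 2 hodd
    have hu' : orderOf (u : G) = 2 := by rw [Subgroup.orderOf_coe]; exact hu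
    have hu1 : (u : G) • a = a := mem_stabilizer_iff.1 u.2.1
    obtain ⟨v, hv, hvu⟩ := u.2.2
    have hu2 : (u : G) • (g • a) = g • a := by
      have h1 : (u : G) = g * v * g⁻¹ := hvu.symm
      rw [h1, smul_smul, mul_assoc, inv_mul_cancel, mul_one, mul_smul]
      congr 1
    have hne : g • a ≠ a := fun h => hg (mem_stabilizer_iff.2 h)
    have h3 := hf (u : G) hu'
    have h4 : Subsingleton (fixedBy Ω (u : G)) := (Finite.card_le_one_iff_subsingleton).1 h3
    exact hne (congrArg Subtype.val (@Subsingleton.elim _ h4 ⟨g • a, hu2⟩ ⟨a, hu1⟩))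

end Cfsg.Agent.H96.Fx
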