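import Mathlib
import Cfsg.Prelude
import Cfsg.Agent.H96.Fx.Base

set_option autoImplicit false
open MulAction
open scoped Pointwise

namespace Cfsg.Agent.H96.Fx

/-! ## pure 2-group lemmas -/

/-- [Z8] -/
theorem z8 {S : Type*} [Group S] [Finite S] (hS : IsPGroup 2 S) (t : S) (ht : orderOf t = 2)
    (h : Nat.card (Subgroup.centralizer ({t} : Set S)) ≤ 8) : Cfsg.SectionalPRankLE 2 4 S := sorry

/-- [Z16] -/
theorem z16 {S : Type*} [Group S] [Finite S] (hS : IsPGroup 2 S) (t : S) (ht : orderOf t = 2)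
    (h : Nat.card (Subgroup.centralizer ({t} : Set S)) = 16)
    (hna : ∃ a ∈ Subgroup.centralizer ({t} : Set S), ∃ b ∈ Subgroup.centralizer ({t} : Set S), a * b ≠ b * a) :
    Cfsg.SectionalPRankLE 2 4 S := sorry

/-- [L32] -/
theorem l32 {S : Type*} [Group S] [Finite S] (hS : IsPGroup 2 S) (u : S) (hu : orderOf u = 2)
    (R U₁ U₂ : Subgroup S) (hR : Subgroup.centralizer ({u} : Set S) = R) (hc : Nat.card R = 32)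
    (h1 : U₁ ≤ R) (h2 : U₂ ≤ R) (c1 : Nat.card U₁ = 4) (c2 : Nat.card U₂ = 4) (hd : U₁ ⊓ U₂ = ⊥)
    (φ₁ φ₂ : R →* DihedralGroup 4) (k1 : φ₁.ker = U₁.subgroupOf R) (k2 : φ₂.ker = U₂.subgroupOf R) :
    Cfsg.SectionalPRankLE 2 4 S := sorry

/-- [L64] -/
theorem l64 {S : Type*} [Group S] [Finite S] (hS : IsPGroup 2 S) (hc : Nat.card S ≤ 64) (U : Subgroup S)
    (hU : Nat.card U = 4) (hC : ∀ u ∈ U, u ≠ 1 → Nat.card (Subgroup.centralizer ({u} : Set S)) = 16) :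
    Cfsg.SectionalPRankLE 2 4 S := sorry

/-- [L16] -/
theorem l16 {S : Type*} [Group S] [Finite S] (hS : IsPGroup 2 S) (R U : Subgroup S) (hUR : U ≤ R)
    (hU : Nat.card U = 4) (hR : Nat.card R = 16) (hRe : ∀ r ∈ R, r ^ 2 = 1)
    (hC : ∀ u ∈ U, u ≠ 1 → Subgroup.centralizer ({u} : Set S) = R)
    (hTI : ∀ n ∈ Subgroup.normalizer (R : Set S), ∀ u ∈ U, u ≠ 1 → n * u * n⁻¹ ∈ U → ∀ v ∈ U, n * v * n⁻¹ ∈ U) :
    Cfsg.SectionalPRankLE 2 4 S := sorry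

/-- [L16A] -/
theorem l16a {S : Type*} [Group S] [Finite S] (hS : IsPGroup 2 S) (R U₁ U₂ : Subgroup S)
    (hR : Nat.card R = 16) (hab : ∀ a ∈ R, ∀ b ∈ R, a * b = b * a) (h1 : U₁ ≤ R) (h2 : U₂ ≤ R)
    (c1 : Nat.card U₁ = 4) (c2 : Nat.card U₂ = 4) (hd : U₁ ⊓ U₂ = ⊥) (hne : ∃ r ∈ R, r ^ 2 ≠ 1)
    (hC : ∀ u ∈ U₂, orderOf u = 2 → Subgroup.centralizer ({u} : Set S) = R) :
    Cfsg.SectionalPRankLE 2 4 S := sorry

/-- [D8] -/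
theorem d8_of_perm {R : Type*} [Group R] [Finite R] {X : Type*} [Finite X] (hX : Nat.card X = 4)
    (ρ : R →* Equiv.Perm X) (h : Nat.card ρ.range = 8) :
    ∃ φ : R →* DihedralGroup 4, φ.ker = ρ.ker := sorry

/-- [SG] -/
theorem sect_of_sylow {G : Type*} [Group G] [Finite G] (S : Sylow 2 G)
    (h : Cfsg.SectionalPRankLE 2 4 (S : Subgroup G)) : Cfsg.SectionalPRankLE 2 4 G := sorry

/-! ## control of fusion (p arbitrary), used for p = 2 and p = 3 -/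

/-- [CF] -/
theorem ctrl (p : ℕ) [Fact p.Prime] {G : Type*} [Group G] [Finite G] (hperf : commutator G = ⊤)
    (M D : Subgroup G) (hDM : D ≤ M) (hDn : ∀ m ∈ M, ∀ d ∈ D, m * d * m⁻¹ ∈ D) (S : Sylow p G)
    (hSM : (S : Subgroup G) ≤ M) (hpD : p ∣ Nat.card D)
    (hTI : ∀ x ∈ D, x ≠ 1 → (∃ k : ℕ, x ^ p ^ k = 1) → ∀ g : G, g * x * g⁻¹ ∈ D → g ∈ M)
    (hsc : ∀ x ∈ (S : Subgroup G), x ∈ D → ∀ g : G, g * x * g⁻¹ ∈ (S : Subgroup G) → g * x * g⁻¹ ∈ D)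
    {A : Type*} [CommGroup A] (χ : M →* A) (hχ : ∀ d : M, (d : G) ∈ D → χ d = 1) :
    ∀ s : M, (s : G) ∈ (S : Subgroup G) → χ s = 1 := sorry

/-- [ODD] -/
theorem b4_odd {G : Type*} [Group G] [Finite G] (M D : Subgroup G) (hDM : D ≤ M)
    (hDn : ∀ m ∈ M, ∀ d ∈ D, m * d * m⁻¹ ∈ D) (z : G) (hz2 : orderOf z = 2)
    (hzM : ∀ g : G, g * z * g⁻¹ ∈ M → g * z * g⁻¹ ∈ D)
    (hTI : ∀ x ∈ D, x ≠ 1 → ∀ g : G, g * x * g⁻¹ ∈ D → g ∈ M)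
    (g : G) (hg : g ∉ M) (x y : G) (hx : IsConj z x) (hy : IsConj z y) (hxM : x ∈ M) (hyM : g⁻¹ * y * g ∈ M) :
    Odd (orderOf (x * y)) := sorry

/-- [CNT] uniqueness of the number of conjugates of `z` moving `M` to `gMg⁻¹`: there are exactly `#(z^G ∩ M)`. -/
theorem b4_count {G : Type*} [Group G] [Finite G] (M D : Subgroup G) (hDM : D ≤ M)
    (hDn : ∀ m ∈ M, ∀ d ∈ D, m * d * m⁻¹ ∈ D) (z : G) (hz2 : orderOf z = 2) (hzD : z ∈ D)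
    (hzM : ∀ g : G, g * z * g⁻¹ ∈ M → g * z * g⁻¹ ∈ D)
    (hTI : ∀ x ∈ D, x ≠ 1 → ∀ g : G, g * x * g⁻¹ ∈ D → g ∈ M)
    (g : G) (hg : g ∉ M) :
    Nat.card {y : G // IsConj z y ∧ y⁻¹ * g ∈ M} = Nat.card {y : G // IsConj z y ∧ y ∈ M} := sorry

/-- [B4M] -/
theorem b4_main {G : Type*} [Group G] [Finite G] [IsSimpleGroup G] (hna : ¬ IsMulCommutative G) (M D : Subgroup G) (hDM : D ≤ M)
    (hDn : ∀ m ∈ M, ∀ d ∈ D, m * d * m⁻¹ ∈ D) (S : Sylow 2 G) (hSM : (S : Subgroup G) ≤ M)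
    (hpD : 2 ∣ Nat.card D) (hTI : ∀ x ∈ D, x ≠ 1 → ∀ g : G, g * x * g⁻¹ ∈ D → g ∈ M)
    (hsc : ∀ x ∈ (S : Subgroup G), x ∈ D → ∀ g : G, g * x * g⁻¹ ∈ (S : Subgroup G) → g * x * g⁻¹ ∈ D)
    (hO : ∀ W ≤ M, 2 ∣ Nat.card W → ∀ N ≤ W, (∀ w ∈ W, ∀ n ∈ N, w * n * w⁻¹ ∈ N) → Odd (Nat.card N) → N ≤ D) :
    ∀ g ∉ M, ¬ 2 ∣ Nat.card ↥(M ⊓ M.map (MulAut.conj g).toMonoidHom) := sorry

/-! ## geometric pieces, fixity 4, p = 2 -/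
section geo
variable {G Ω : Type*} [Group G] [Finite G] [MulAction G Ω] [Finite Ω]

/-- [B1] general p -/
theorem b1 (p : ℕ) [Fact p.Prime] (Λ : Set Ω)
    (hfx : ∀ w ∈ fixingSubgroup G Λ, w ≠ 1 → (∃ k : ℕ, w ^ p ^ k = 1) → fixedBy Ω w = Λ)
    (hMD : ¬ p ∣ (fixingSubgroup G Λ).relIndex (stabilizer G Λ)) :
    ∀ g ∉ stabilizer G Λ, ¬ p ∣ Nat.card ↥(stabilizer G Λ ⊓ (stabilizer G Λ).map (MulAut.conj g).toMonoidHom) := sorry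

/-- [B2] -/
theorem b2 (hfix : ∀ g : G, g ≠ 1 → Nat.card (fixedBy Ω g) ≤ 4) (Λ : Set Ω) (hΛ : Nat.card Λ = 4)
    (hD2 : 2 ∣ Nat.card (fixingSubgroup G Λ)) (S : Sylow 2 G)
    (hF : ¬ 2 ∣ ((S : Subgroup G) ⊓ stabilizer G Λ).relIndex (stabilizer G Λ))
    (hFE : ¬ (S : Subgroup G) ⊓ stabilizer G Λ ≤ fixingSubgroup G Λ)
    (hFS : ¬ (S : Subgroup G) ≤ stabilizer G Λ) : Cfsg.SectionalPRankLE 2 4 (S : Subgroup G) := sorry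

/-- [B3] -/
theorem b3 (hfix : ∀ g : G, g ≠ 1 → Nat.card (fixedBy Ω g) ≤ 4) (Λ : Set Ω) (hΛ : Nat.card Λ = 4)
    (hD2 : 2 ∣ Nat.card (fixingSubgroup G Λ)) (S : Sylow 2 G) (hSM : (S : Subgroup G) ≤ stabilizer G Λ)
    (u : G) (huS : u ∈ (S : Subgroup G)) (hu2 : orderOf u = 2) (huD : u ∉ fixingSubgroup G Λ)
    (g : G) (hg : g⁻¹ * u * g ∈ fixingSubgroup G Λ) : Cfsg.SectionalPRankLE 2 4 (S : Subgroup G) := sorry

/-- [B4O] -/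
theorem b4_O [IsSimpleGroup G] (hna : ¬ IsMulCommutative G) (hfix : ∀ g : G, g ≠ 1 → Nat.card (fixedBy Ω g) ≤ 4)
    (Λ : Set Ω) (hΛ : Nat.card Λ = 4)
    (hD2 : 2 ∣ Nat.card (fixingSubgroup G Λ)) (S : Sylow 2 G) (hSM : (S : Subgroup G) ≤ stabilizer G Λ)
    (hsc : ∀ x ∈ (S : Subgroup G), x ∈ fixingSubgroup G Λ → ∀ g : G, g * x * g⁻¹ ∈ (S : Subgroup G) →
      g * x * g⁻¹ ∈ fixingSubgroup G Λ) :
    ∀ W ≤ stabilizer G Λ, 2 ∣ Nat.card W → ∀ N ≤ W, (∀ w ∈ W, ∀ n ∈ N, w * n * w⁻¹ ∈ N) → Odd (Nat.card N) →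
      N ≤ fixingSubgroup G Λ := sorry

/-- [PB] assembly of part B -/
theorem partB [IsSimpleGroup G] (hna : ¬ IsMulCommutative G) [FaithfulSMul G Ω] (htrans : IsPretransitive G Ω)
    (hfix : ∀ g : G, g ≠ 1 → Nat.card (fixedBy Ω g) ≤ 4) (t : G) (ht : orderOf t = 2)
    (h4 : Nat.card (fixedBy Ω t) = 4) (S : Sylow 2 G) :
    (∃ H : Subgroup G, Cfsg.IsStronglyEmbedded H) ∨ Cfsg.SectionalPRankLE 2 4 (S : Subgroup G) := sorry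

/-- [PA] part A -/
theorem partA [IsSimpleGroup G] (hna : ¬ IsMulCommutative G) [FaithfulSMul G Ω] (htrans : IsPretransitive G Ω)
    (S : Sylow 2 G) (f : ℕ) (hf1 : 1 ≤ f) (hf3 : f ≤ 3)
    (hf : ∀ g : G, orderOf g = 2 → Nat.card (fixedBy Ω g) ≤ f)
    (t : G) (ht : orderOf t = 2) (htf : Nat.card (fixedBy Ω t) = f) :
    (∃ H : Subgroup G, Cfsg.IsStronglyEmbedded H) ∨
      ((∃ n : ℕ, Nonempty ((S : Subgroup G) ≃* DihedralGroup n)) ∨ Cfsg.IsQuasiDihedral (S : Subgroup G)) := sorry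

end geo

/-! ## part C : p = 3 -/

/-- [TTR] -/
theorem ttr (p : ℕ) [Fact p.Prime] {G : Type*} [Group G] [Finite G] (hperf : commutator G = ⊤) (P : Sylow p G)
    (K : Subgroup G) (hKP : K ≤ (P : Subgroup G))
    (hKn : ∀ x ∈ (P : Subgroup G), ∀ k ∈ K, x * k * x⁻¹ ∈ K)
    (hab : ∀ x ∈ (P : Subgroup G), ∀ y ∈ (P : Subgroup G), x * y * x⁻¹ * y⁻¹ ∈ K)
    (e : G) (he : e ∈ (P : Subgroup G)) (hep : e ^ p = 1) (heK : e ∉ K)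
    (h : ∀ s : G, s * e * s⁻¹ ∈ (P : Subgroup G) → (s * e * s⁻¹) * e⁻¹ ∈ K) : False := sorry

/-- [T3] -/
theorem t3 {G : Type*} [Group G] [Finite G] (P : Sylow 3 G) (e : G) (he : e ∈ (P : Subgroup G)) (he3 : e ^ 3 = 1)
    (h9 : Nat.card ↥((P : Subgroup G) ⊓ Subgroup.centralizer ({e} : Set G)) = 9)
    (h9' : ¬ 27 ∣ Nat.card (Subgroup.centralizer ({e} : Set G))) (s : G) (hs : s * e * s⁻¹ ∈ (P : Subgroup G)) :
    ∃ n ∈ Subgroup.normalizer ((P : Subgroup G) : Set G), ∃ c ∈ ⁅(P : Subgroup G), (P : Subgroup G)⁆,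
      s * e * s⁻¹ = n * e * n⁻¹ * c := sorry

/-- [M3] 3-groups with an element of order 3 with centralizer of order 9 -/
theorem m3 {P : Type*} [Group P] [Finite P] (hP : IsPGroup 3 P) (e : P) (he3 : orderOf e = 3)
    (h9 : Nat.card (Subgroup.centralizer ({e} : Set P)) = 9) (h27 : 27 ≤ Nat.card P)
    (hn : ¬ (Nat.card P = 27 ∧ ∀ x : P, x ^ 3 = 1)) :
    (commutator P).index = 9 ∧ (∀ c ∈ commutator P, IsConj e (e * c)) ∧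
      ∃ L : Subgroup P, L.Characteristic ∧ L.index = 3 ∧ commutator P ≤ L := sorry

/-- [CABS] the abstract case (γ) -/
theorem c_abs {G : Type*} [Group G] [Finite G] (hperf : commutator G = ⊤) (P : Sylow 3 G) (e : G)
    (he : e ∈ (P : Subgroup G)) (he3 : orderOf e = 3)
    (h9 : Nat.card ↥((P : Subgroup G) ⊓ Subgroup.centralizer ({e} : Set G)) = 9)
    (h9' : ¬ 27 ∣ Nat.card (Subgroup.centralizer ({e} : Set G))) (h27 : 27 ≤ Nat.card P)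
    (hB : ∀ q ∈ Subgroup.normalizer ((P : Subgroup G) : Set G), (∃ k : ℕ, q ^ 2 ^ k = 1) →
      ∀ x ∈ (P : Subgroup G), IsConj e x → q * x * q⁻¹ ∈ Subgroup.zpowers x → q = 1) :
    Nat.card P = 27 ∧ ∀ x ∈ (P : Subgroup G), x ^ 3 = 1 := sorry

/-- [EXT] -/
theorem ext27 {P : Type*} [Group P] [Finite P] (h : Nat.card P = 27) (hex : ∀ x : P, x ^ 3 = 1)
    (e : P) (h9 : Nat.card (Subgroup.centralizer ({e} : Set P)) = 9) : Cfsg.IsExtraspecial 3 P := sorry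

section geo3
variable {G Ω : Type*} [Group G] [Finite G] [MulAction G Ω] [Finite Ω]

/-- [C2] case F = P (P ≤ M, 3 ∣ |M : D|): then |P| = 9 and exponent 3 -/
theorem c2 (hperf : commutator G = ⊤) (Λ : Set Ω) (M₀ : Subgroup G)
    (hfx : ∀ w ∈ fixingSubgroup G Λ, w ≠ 1 → (∃ k : ℕ, w ^ 3 ^ k = 1) → fixedBy Ω w = Λ)
    (hD3 : 3 ∣ Nat.card (fixingSubgroup G Λ)) (P : Sylow 3 G) (hPM : (P : Subgroup G) ≤ stabilizer G Λ)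
    (hDM₀ : fixingSubgroup G Λ ≤ M₀) (hM₀ : M₀ ≤ stabilizer G Λ) (hM₀i : M₀.relIndex (stabilizer G Λ) = 3)
    (hM₀n : ∀ m ∈ stabilizer G Λ, ∀ x ∈ M₀, m * x * m⁻¹ ∈ M₀) (hM₀D : ¬ 3 ∣ (fixingSubgroup G Λ).relIndex M₀)
    (hsmall : ∀ u ∈ stabilizer G Λ, u ∉ M₀ → Nat.card ↥(fixedBy Ω u \ Λ : Set Ω) ≤ 3) :
    Nat.card P = 9 ∧ ∀ x ∈ (P : Subgroup G), x ^ 3 = 1 := sorry

/-- [PC] part C -/
theorem partC [IsSimpleGroup G] (hna : ¬ IsMulCommutative G) [FaithfulSMul G Ω] (htrans : IsPretransitive G Ω)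
    (hfix : ∀ g : G, g ≠ 1 → Nat.card (fixedBy Ω g) ≤ 4) (hinv : ∀ g : G, orderOf g = 2 → fixedBy Ω g = ∅)
    (P : Sylow 3 G) (a : Ω) (h3 : 3 ∣ Nat.card (stabilizer G a)) :
      (∃ H : Subgroup G, H ≠ ⊤ ∧ 3 ∣ Nat.card H ∧ ∀ g : G, g ∉ H → ¬ 3 ∣ Nat.card ↥(H ⊓ H.map (MulAut.conj g).toMonoidHom)) ∨
       (Nat.card P = 9 ∧ ∀ x ∈ (P : Subgroup G), x ^ 3 = 1) ∨
       (Nat.card P = 27 ∧ Cfsg.IsExtraspecial 3 (P : Subgroup G) ∧ ∀ x ∈ (P : Subgroup G), x ^ 3 = 1) := sorry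

end geo3

end Cfsg.Agent.H96.Fx
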